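import Cfsg.Prelude.Def_GeometricClasses
import Cfsg.Prelude.Def_Classical
import Mathlib

/-!
# The form `Σ x_i y_i` transported by a linear isomorphism (helper392)
-/

set_option autoImplicit false
set_option linter.unusedSectionVars false

namespace Cfsg.Agent.H392.TD

open Matrix Cfsg.Geo

variable {m : ℕ} {F : Type*} [Field F] {ι : Type} [Fintype ι] [DecidableEq ι]
  (θ : (Fin m ⊕ Fin m → F) ≃ₗ[F] (ι → F))

/-- the polar form -/
def bp (m : ℕ) (F : Type*) [Field F] (u v : Fin m ⊕ Fin m → F) : F :=
  ∑ i : Fin m, (u (.inl i) * v (.inr i) + v (.inl i) * u (.inr i))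

theorem polar_plus (u v : Fin m ⊕ Fin m → F) : QuadraticMap.polar (quadFormPlus m F) u v = bp m F u v := by
  unfold QuadraticMap.polar quadFormPlus bp
  rw [← Finset.sum_sub_distrib, ← Finset.sum_sub_distrib]
  refine Finset.sum_congr rfl fun i _ => ?_
  rw [Pi.add_apply, Pi.add_apply]
  ring

theorem bp_nondeg {u : Fin m ⊕ Fin m → F} (hu : u ≠ 0) : ∃ v, bp m F u v ≠ 0 := by
  obtain ⟨i, hi⟩ : ∃ i, u i ≠ 0 := by
    by_contra h
    push Not at h
    exact hu (funext h)
  rcases i with i | i
  · refine ⟨Pi.single (Sum.inr i) 1, ?_⟩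
    unfold bp
    rw [Finset.sum_eq_single i]
    · simpa using hi
    · intro b _ hb
      have h1 : (Sum.inr b : Fin m ⊕ Fin m) ≠ Sum.inr i := fun h => hb (Sum.inr_injective h)
      simp [h1]
    · intro h
      exact absurd (Finset.mem_univ i) h
  · refine ⟨Pi.single (Sum.inl i) 1, ?_⟩
    unfold bp
    rw [Finset.sum_eq_single i]
    · simpa using hi
    · intro b _ hb
      have h1 : (Sum.inl b : Fin m ⊕ Fin m) ≠ Sum.inl i := fun h => hb (Sum.inl_injective h)
      simp [h1]
    · intro h
      exact absurd (Finset.mem_univ i) h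

theorem bp_comm (u v : Fin m ⊕ Fin m → F) : bp m F u v = bp m F v u := by
  unfold bp
  exact Finset.sum_congr rfl fun i _ => by ring

theorem bp_add (u u' v : Fin m ⊕ Fin m → F) : bp m F (u + u') v = bp m F u v + bp m F u' v := by
  unfold bp
  rw [← Finset.sum_add_distrib]
  exact Finset.sum_congr rfl fun i _ => by rw [Pi.add_apply, Pi.add_apply]; ring

theorem bp_smul (a : F) (u v : Fin m ⊕ Fin m → F) : bp m F (a • u) v = a * bp m F u v := by
  unfold bp
  rw [Finset.mul_sum]
  exact Finset.sum_congr rfl fun i _ => by rw [Pi.smul_apply, Pi.smul_apply, smul_eq_mul, smul_eq_mul]; ring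

/-- the transported form -/
def qp (v : ι → F) : F := quadFormPlus m F (θ.symm v)

theorem polar_qp (u v : ι → F) : QuadraticMap.polar (qp θ) u v = bp m F (θ.symm u) (θ.symm v) := by
  rw [← polar_plus]
  unfold QuadraticMap.polar qp
  rw [map_add]

theorem qp_nondeg : IsNondegenerateQuadraticForm (qp θ) where
  smul c v := by
    unfold qp quadFormPlus
    rw [map_smul, Finset.mul_sum]
    exact Finset.sum_congr rfl fun i _ => by rw [Pi.smul_apply, Pi.smul_apply, smul_eq_mul, smul_eq_mul]; ring
  polar_bilinear := by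
    constructor
    · intro x y v
      rw [polar_qp, polar_qp, polar_qp, map_add, bp_add]
    · intro c x v
      rw [polar_qp, polar_qp, map_smul, bp_smul]
    · intro v x y
      rw [polar_qp, polar_qp, polar_qp, map_add, bp_comm, bp_add, bp_comm (θ.symm x), bp_comm (θ.symm y)]
    · intro c v x
      rw [polar_qp, polar_qp, map_smul, bp_comm, bp_smul, bp_comm (θ.symm x)]
  nondegenerate := by
    intro v hv
    have hv' : θ.symm v ≠ 0 := fun h => hv ((map_eq_zero_iff _ θ.symm.injective).1 h)
    obtain ⟨w, hw⟩ := bp_nondeg hv'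
    refine ⟨⟨θ w, ?_⟩, ⟨θ w, ?_⟩⟩
    · rw [polar_qp, LinearEquiv.symm_apply_apply, bp_comm]
      exact hw
    · rw [polar_qp, LinearEquiv.symm_apply_apply]
      exact hw

theorem qp_plus : IsPlusTypeOn (qp θ) ⊤ := by
  let L0 : (Fin m → F) →ₗ[F] (Fin m ⊕ Fin m → F) :=
    { toFun := fun a => Sum.elim a 0
      map_add' := fun a b => by
        funext i
        rcases i with i | i
        · rfl
        · exact (add_zero (0 : F)).symm
      map_smul' := fun c a => by
        funext i
        rcases i with i | i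
        · rfl
        · exact (smul_zero c).symm }
  let L : (Fin m → F) →ₗ[F] (ι → F) := θ.toLinearMap.comp L0
  have hL : ∀ a, θ.symm (L a) = Sum.elim a 0 := fun a => θ.symm_apply_apply _
  refine ⟨LinearMap.range L, le_top, ?_, ?_⟩
  · rintro _ ⟨a, rfl⟩
    change quadFormPlus m F (θ.symm (L a)) = 0
    rw [hL]
    unfold quadFormPlus
    exact Finset.sum_eq_zero fun i _ => by
      rw [Sum.elim_inl, Sum.elim_inr]
      exact mul_zero _
  · have hinj : Function.Injective L := by
      intro a b hab
      have h1 := congrArg θ.symm hab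
      rw [hL, hL] at h1
      funext i
      exact congrFun h1 (Sum.inl i)
    rw [LinearMap.finrank_range_of_inj hinj, finrank_top, ← LinearEquiv.finrank_eq θ,
      Module.finrank_fintype_fun_eq_card, Module.finrank_fintype_fun_eq_card, Fintype.card_sum, Fintype.card_fin]
    omega

/-- semilinear transport of an isometry -/
theorem map_isometry {K : Type*} [Field K] (σ : K ≃+* F) {M : Matrix (Fin m ⊕ Fin m) (Fin m ⊕ Fin m) K}
    (hM : ∀ v, quadFormPlus m K (M *ᵥ v) = quadFormPlus m K v) (v : Fin m ⊕ Fin m → F) :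
    quadFormPlus m F (M.map σ *ᵥ v) = quadFormPlus m F v := by
  have hq : ∀ w : Fin m ⊕ Fin m → K, quadFormPlus m F (fun i => σ (w i)) = σ (quadFormPlus m K w) := fun w => by
    unfold quadFormPlus
    rw [map_sum]
    exact Finset.sum_congr rfl fun i _ => (map_mul σ _ _).symm
  obtain ⟨w, rfl⟩ : ∃ w : Fin m ⊕ Fin m → K, (fun i => σ (w i)) = v :=
    ⟨fun i => σ.symm (v i), funext fun i => σ.apply_symm_apply _⟩
  have h1 : M.map σ *ᵥ (fun i => σ (w i)) = fun i => σ ((M *ᵥ w) i) := by
    funext i
    rw [Matrix.mulVec, Matrix.mulVec, dotProduct, dotProduct, map_sum]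
    exact Finset.sum_congr rfl fun l _ => by rw [Matrix.map_apply, map_mul]
  rw [h1, hq, hq, hM]

end Cfsg.Agent.H392.TD
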