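import Cfsg.Agent.H392.TD.Eig
import Cfsg.Agent.H392.TD.Nat8
import Cfsg.Agent.H392.TD.Quad
import Cfsg.Agent.H48.DsChev
import Cfsg.Agent.H911.AdForm

/-!
# `³D₄(q)` in its own characteristic, `n ≤ 12` (helper392)

`P` a linear group over the finite field `F` of characteristic `p`, absolutely irreducible, quasisimple modulo scalars,
over no proper subfield, `P / Z ≅ ³D₄(q)`, `q` a power of `p`, `n ≤ 12`:

* **`d4_small`** : `n = 8`, `|F| = q³`, `P` fixes a nondegenerate quadratic form, every such form is of plus type.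
-/

set_option autoImplicit false
set_option linter.unusedSectionVars false
set_option linter.style.haveILetI false

namespace Cfsg.Agent.H392.TD

open Matrix CoxeterSystem Cfsg.Agent.ChevalleyStructure.CoxeterGeom Cfsg.Agent.Tits.Roots Cfsg.Agent.Tits.Core
  Cfsg.Agent.Tits.Exchange Cfsg.Agent.Nodes.Reps Cfsg.Agent.Nodes.BNOf Cfsg.Agent.Nodes.StabComb
  Cfsg.Agent.Nodes.Bruhat Cfsg.Agent.Nodes.OppDec Cfsg.Agent.Nodes.LeviDec Cfsg.Agent.KFacts.RgdOpp
  Cfsg.Agent.Omega.CR Cfsg.Agent.Omega.FOne.Lift.Sd Cfsg.Agent.H905.Md Cfsg.Agent.H875.Fn Cfsg.Agent.H911 Cfsg.Agent.H911.Ad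
open Cfsg.Lie Cfsg.Agent.ChevalleyStructure Cfsg.Geo Cfsg.Agent.H915.LD

theorem exists_embedding (K A : Type*) [Field K] [Finite K] [Field A] [IsAlgClosed A] (p : ℕ) [Fact p.Prime]
    [CharP K p] [CharP A p] : Nonempty (K →+* A) := by
  letI := ZMod.algebra K p
  letI := ZMod.algebra A p
  have : Algebra.IsAlgebraic (ZMod p) K := inferInstance
  exact ⟨(IsAlgClosed.lift : K →ₐ[ZMod p] A).toRingHom⟩

section P

variable {F : Type*} [Field F] [Finite F] {ι : Type} [Fintype ι] [DecidableEq ι] {P : Subgroup (GL ι F)}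
  {K : Type*} [Field K] [Fintype K] {q : ℕ} {φ : K →+* K} (hφ : ∀ x, φ x = x ^ q) (hK : Fintype.card K = q ^ 3)
  {p : ℕ} [Fact p.Prime] [CharP F p] [CharP K p]

include hφ hK in
/-- **The order of the field.** -/
theorem card_field (hC : Core P) (hp : p.Prime) {ψ : ↥(twistedD4 K q) →* GL ι F} (hψ : ψ.range = P)
    (hn : Fintype.card ι ≤ 12) : Nat.card F = q ^ 3 := by
  have hne := hC.nonempty
  have h2 := hC.two_le
  have hW : Finite CoxeterMatrix.G₂.Group := finiteG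
  have hY : Finite ↥(twistedD4 K q) := inferInstance
  have R := Nodes.RGDTwD4.rgd (K := K) cs hK hφ p
  have hG := GG_top (q := q) hφ hK
  obtain ⟨f, hf, hqf⟩ := exists_f (p := p) hK
  have hKp : Fintype.card K = p ^ (f * 3) := by rw [hK, hqf, ← pow_mul]
  -- all elements of `F` satisfy `x ^ q³ = x`
  have htr : ∀ g ∈ P, (g : Matrix ι ι F).trace ^ p ^ (f * 3) = (g : Matrix ι ι F).trace := fun g hg =>
    trace_pow R hG T_comm hψ hC.absIrred (a := f * 3) (fun t ht => by rw [← hKp]; exact T_pow_card hφ hK ht) hg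
  have hF : ∀ x : F, x ^ p ^ (f * 3) = x := pow_eq_of_no_subfield hC.absIrred hC.no_subfield p (f * 3) htr
  have hd1 := card_dvd_of_pow_eq (F := F) (Nat.one_le_pow (f * 3) p hp.pos) hF
  -- the character
  obtain ⟨c, hc, hc0, χ, hχ⟩ := exists_chiF R hG T_comm hψ hC.absIrred
  set A := AlgebraicClosure F with hA
  have hchar : CharP A p := charP_of_injective_algebraMap (algebraMap F A).injective p
  obtain ⟨j⟩ := exists_embedding K A p
  have hirr := ac_irr R hG T_comm hψ hC.absIrred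
  let c' : ι → A := fun i => algebraMap F A (c i)
  have hc' : c' ∈ D cs Nodes.RGDTwD4.isCartan (Nodes.RGDTwD4.X φ q) (lin (acRep ψ)) := by
    intro u hu
    change lin (acRep ψ) u (fun i => algebraMap F A (c i)) = _
    rw [ac_map, hc u hu]
  have hc'0 : c' ≠ 0 := by
    intro h0
    apply hc0
    funext i
    exact (algebraMap F A).injective ((congrFun h0 i).trans (map_zero _).symm)
  have hχ' : ∀ t ∈ Nodes.RGDTwD4.T K q, lin (acRep ψ) t c' = algebraMap F A (χ t) • c' := by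
    intro t ht
    change lin (acRep ψ) t (fun i => algebraMap F A (c i)) = _
    rw [ac_map, hχ t ht]
    funext i
    exact map_mul _ _ _
  have hfr : Module.finrank (AlgebraicClosure F) (ι → AlgebraicClosure F) = Fintype.card ι :=
    Module.finrank_fintype_fun_eq_card _
  obtain ⟨-, -, -, t, ht, -⟩ := classify hφ hK j hirr hp (by rw [hfr]; exact h2) (by rw [hfr]; exact hn) hc' hc'0 hχ'
  -- `K` embeds into `F`
  have hFc : ∀ x : F, x ^ Nat.card F = x := fun x => by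
    have := Fintype.ofFinite F
    rw [Nat.card_eq_fintype_card]
    exact FiniteField.pow_card x
  have hKF : ∀ x : K, x ^ Nat.card F = x := by
    intro x
    by_cases hx : x = 0
    · rw [hx, zero_pow Nat.card_pos.ne']
    · have h3 := ht (Units.mk0 x hx)
      rw [Units.val_mk0] at h3
      have h4 : (j x ^ p ^ t) ^ Nat.card F = j x ^ p ^ t := by
        rw [← h3, ← map_pow, hFc]
      rw [← pow_mul, mul_comm, pow_mul] at h4
      have : ExpChar A p := ExpChar.prime hp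
      have h5 : iterateFrobenius A p t (j x ^ Nat.card F) = iterateFrobenius A p t (j x) := h4
      have h6 := iterateFrobenius_inj A p t h5
      rw [← map_pow] at h6
      exact j.injective h6
  have hd2 := card_dvd_of_pow_eq (F := K) (m := Nat.card F) Nat.card_pos hKF
  have h7 : 1 < Nat.card F := Finite.one_lt_card
  have h8 : 1 < Fintype.card K := Fintype.one_lt_card
  rw [← hKp] at hd1
  rw [Nat.card_eq_fintype_card (α := K)] at hd2
  have h9 := Nat.dvd_antisymm hd1 hd2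
  omega

omit [Finite F] in
include hφ hK in
theorem eight_chi {k V : Type*} [Field k] (j : K →+* k) [AddCommGroup V] [Module k V] [FiniteDimensional k V]
    [CharP k p] (hp : p.Prime) {ρ : ↥(twistedD4 K q) →* Module.End k V}
    (hirr : ∀ L : Submodule k V, Ivt ρ (GG cs Nodes.RGDTwD4.isCartan (Nodes.RGDTwD4.T K q) (Nodes.RGDTwD4.X φ q)) L →
      L = ⊥ ∨ L = ⊤) (h2 : 2 ≤ Module.finrank k V) (h12 : Module.finrank k V ≤ 12)
    {c : V} (hc : c ∈ D cs Nodes.RGDTwD4.isCartan (Nodes.RGDTwD4.X φ q) ρ) (hc0 : c ≠ 0) {χ : ↥(twistedD4 K q) → k}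
    (hχ : ∀ t ∈ Nodes.RGDTwD4.T K q, ρ t c = χ t • c) :
    (∀ i, i ∈ JD φ q ρ ↔ i = 0) ∧ ∃ t : ℕ, ∀ (a s : Kˣ) (hs : fu φ s = s), χ (hB hφ a * hA hφ s hs) = j (a : K) ^ p ^ t := by
  have hnt : Nontrivial V := Module.nontrivial_of_finrank_pos (R := k) (by omega)
  obtain ⟨h0, h1, -, t, ht, ht'⟩ := classify hφ hK j hirr hp h2 h12 hc hc0 hχ
  refine ⟨fun i => ?_, t, fun a s hs => ?_⟩
  · fin_cases i
    · exact ⟨fun _ => rfl, fun _ => h0⟩
    · exact ⟨fun h => absurd h h1, fun h => absurd h (by decide)⟩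
  · rw [chi_mul hc0 hχ (hB_mem hφ a) (hA_mem hφ s hs), ht, ht', mul_one]

omit [CharP F p] [CharP K p] [Fact p.Prime] in
theorem nontriv_N [DecidableEq F] (σ : K ≃+* F) {ψ0 : ↥(twistedD4 K q) →* isometryGroup K (quadFormPlus 4 K)}
    (h0 : Function.Injective ψ0) (hs : Nontrivial ↥(twistedD4 K q)) :
    ∃ g, lin (mrep ((Matrix.GeneralLinearGroup.map (n := Fin 4 ⊕ Fin 4) (σ : K →+* F)).comp
      ((isometryGroup K (quadFormPlus 4 K)).subtype.comp ψ0))) g ≠ 1 := by
  obtain ⟨g, hg⟩ := exists_ne (1 : ↥(twistedD4 K q))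
  refine ⟨g, fun h => hg (h0 ?_)⟩
  rw [map_one]
  apply Subtype.ext
  apply Units.ext
  ext i l
  have h1 := congrFun (LinearMap.congr_fun h (Pi.single l 1)) i
  rw [mrep_apply, Matrix.mulVec_single_one] at h1
  apply σ.injective
  change σ ((((ψ0 g : GL (Fin 4 ⊕ Fin 4) K)) : Matrix _ _ K) i l) = (Pi.single l 1 : Fin 4 ⊕ Fin 4 → F) i at h1
  rw [h1]
  change _ = σ ((1 : Matrix (Fin 4 ⊕ Fin 4) (Fin 4 ⊕ Fin 4) K) i l)
  rw [Matrix.one_apply, Pi.single_apply]
  split_ifs with h2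
  · exact (map_one σ).symm
  · exact (map_zero σ).symm

include hφ hK in
/-- **The natural module.** -/
theorem d4_model (hC : Core P) (hp : p.Prime) (hq : IsPrimePow q) {ψ : ↥(twistedD4 K q) →* GL ι F} (hψ : ψ.range = P)
    (hn : Fintype.card ι ≤ 12) :
    ∃ (σ : K ≃+* F) (ψ0 : ↥(twistedD4 K q) →* isometryGroup K (quadFormPlus 4 K))
      (θ : (Fin 4 ⊕ Fin 4 → F) ≃ₗ[F] (ι → F)),
      ∀ g v, θ ((((ψ0 g : GL (Fin 4 ⊕ Fin 4) K) : Matrix (Fin 4 ⊕ Fin 4) (Fin 4 ⊕ Fin 4) K).map σ) *ᵥ v) =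
        (ψ g : Matrix ι ι F) *ᵥ θ v := by
  classical
  have hne := hC.nonempty
  have h2 := hC.two_le
  have hW : Finite CoxeterMatrix.G₂.Group := finiteG
  have hY : Finite ↥(twistedD4 K q) := inferInstance
  have R := Nodes.RGDTwD4.rgd (K := K) cs hK hφ p
  have hG := GG_top (q := q) hφ hK
  obtain ⟨hs, hcm⟩ := S1071.result hq hK
  have hYp : commutator ↥(twistedD4 K q) = ⊤ := perfect_of_simple hs hcm
  have hcard := card_field hφ hK hC hp hψ hn
  have hFt := Fintype.ofFinite F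
  have hcard' : Fintype.card K = Fintype.card F := by rw [hK, ← hcard, Nat.card_eq_fintype_card]
  have τ : K ≃+* F := FiniteField.ringEquivOfCardEq hcard'
  obtain ⟨f, hf, hqf⟩ := exists_f (p := p) hK
  have hKp : Fintype.card K = p ^ (f * 3) := by rw [hK, hqf, ← pow_mul]
  -- the module `P`
  obtain ⟨c, hc, hc0, χ, hχ⟩ := exists_chiF R hG T_comm hψ hC.absIrred
  have hirr := mrep_irr hψ hC.absIrred hG
  have hfr : Module.finrank F (ι → F) = Fintype.card ι := Module.finrank_fintype_fun_eq_card F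
  obtain ⟨hJP, tP, htP⟩ := eight_chi hφ hK (τ : K →+* F) hp hirr (by rw [hfr]; exact h2) (by rw [hfr]; exact hn)
    hc hc0 hχ
  -- the natural module
  obtain ⟨ψ0, hψ0⟩ := exists_nat hq hK
  set N : ↥(twistedD4 K q) →* GL (Fin 4 ⊕ Fin 4) F :=
    (Matrix.GeneralLinearGroup.map (n := Fin 4 ⊕ Fin 4) (τ : K →+* F)).comp
      ((isometryGroup K (quadFormPlus 4 K)).subtype.comp ψ0) with hN
  have hfrN : Module.finrank F (Fin 4 ⊕ Fin 4 → F) = 8 := by
    rw [Module.finrank_fintype_fun_eq_card]; rfl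
  have hirrN := irr_of_eight hφ hK (τ : K →+* F) hp hYp (lin (mrep N)) hfrN
    (nontriv_N τ hψ0 hs.toNontrivial)
  obtain ⟨cN, hcN, hcN0, χN, hχN⟩ := exists_eig hφ hK (τ : K →+* F) hirrN hp
  obtain ⟨-, tN, htN⟩ := eight_chi hφ hK (τ : K →+* F) hp hirrN (by omega) (by omega) hcN hcN0 hχN
  -- the twist
  have hex : ExpChar F p := ExpChar.prime hp
  set a := tP + (f * 3 - 1) * tN with ha
  let s : F ≃+* F := iterateFrobeniusEquiv F p a
  have hs' : ∀ x, s x = x ^ p ^ a := fun x => iterateFrobeniusEquiv_apply _ _ _ _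
  have hirr' := tw_irr s (mrep N) hirrN
  have hc' : sv s cN ∈ D cs Nodes.RGDTwD4.isCartan (Nodes.RGDTwD4.X φ q) (lin (tw s (mrep N))) :=
    (mem_fx_tw s (mrep N)).2 hcN
  have hc'0 : sv s cN ≠ 0 := fun h => hcN0 (sv_inj s (h.trans (sv_zero s).symm))
  have hχ' : ∀ t ∈ Nodes.RGDTwD4.T K q, lin (tw s (mrep N)) t (sv s cN) = s (χN t) • sv s cN := fun t ht => by
    rw [lin_tw, hχN t ht, sv_smul]
  obtain ⟨hJN, -⟩ := eight_chi hφ hK (τ : K →+* F) hp hirr' (by omega) (by omega) hc' hc'0 hχ'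
  have hχe : ∀ t ∈ Nodes.RGDTwD4.T K q, s (χN t) = χ t := by
    intro t ht
    obtain ⟨b, r, hr, rfl⟩ := exists_tor hφ hq hK ht
    rw [htN, htP, hs', ← pow_mul, ← pow_add]
    have e1 : tN + a = tP + f * 3 * tN := by
      obtain ⟨d, hd⟩ : ∃ d, f * 3 = d + 1 := ⟨f * 3 - 1, by omega⟩
      rw [ha, hd, Nat.add_sub_cancel]
      ring
    have h3 : ∀ (y : F) (n : ℕ), y ^ (p ^ (f * 3)) ^ n = y := by
      intro y n
      rw [← hKp, hcard']
      exact FiniteField.pow_card_pow n _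
    rw [e1, pow_add, pow_mul p (f * 3) tN, mul_comm (p ^ tP), pow_mul, h3]
  have hnt1 : Nontrivial (Fin 4 ⊕ Fin 4 → F) := inferInstance
  have hnt2 : Nontrivial (ι → F) := inferInstance
  obtain ⟨θ, hθ⟩ := iso_of_chi_J R (lin (tw s (mrep N))) (lin (mrep ψ)) hirr' hirr hc' hc'0 hc hc0 (χ := χ)
    (fun t ht => by rw [hχ' t ht, hχe t ht]) hχ (fun i => (hJN i).trans (hJP i).symm)
  refine ⟨τ.trans s, ψ0, θ, fun g v => ?_⟩
  have h3 := hθ g (by rw [hG]; trivial) v
  rw [mrep_apply, lin_apply] at h3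
  exact h3

end P

section final

universe u

variable {F : Type u} [Field F] [Finite F] {ι : Type} [Fintype ι] [DecidableEq ι] {P : Subgroup (GL ι F)}
  {K : Type} [Field K] [Fintype K] {q : ℕ}

/-- **`³D₄(q)`, own characteristic, `n ≤ 12`.** -/
theorem d4_small (p : ℕ) [Fact p.Prime] [CharP F p] [CharP K p] (hC : Core P) (hq : IsPrimePow q)
    (hK : Fintype.card K = q ^ 3) (e : Soc P ≃* twistedD4 K q) (hn : Fintype.card ι ≤ 12) :
    Fintype.card ι = 8 ∧ Nat.card F = q ^ 3 ∧ Nonempty (F ≃+* K) ∧ FixQ P ∧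
      ∀ Q : (ι → F) → F, IsNondegenerateQuadraticForm Q → FixesQuadForm (matrixSet P) Q → IsPlusTypeOn Q ⊤ := by
  have hp : p.Prime := Fact.out
  obtain ⟨f⟩ := H48.DsChev.d4_equiv hC hq hK e
  obtain ⟨φ, hφ⟩ := D4Fixed.exists_frob hq hK
  have hψ : (P.subtype.comp f.symm.toMonoidHom).range = P := by
    rw [MonoidHom.range_comp, MonoidHom.range_eq_top.2 f.symm.surjective, ← MonoidHom.range_eq_map,
      Subgroup.range_subtype]
  obtain ⟨σ, ψ0, θ, hθ⟩ := d4_model hφ hK hC hp hq hψ hn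
  have h8 : Fintype.card ι = 8 := by
    have h1 := LinearEquiv.finrank_eq θ
    rw [Module.finrank_fintype_fun_eq_card, Module.finrank_fintype_fun_eq_card, Fintype.card_sum,
      Fintype.card_fin] at h1
    omega
  have hfix : FixesQuadForm (matrixSet P) (qp θ) := by
    rintro s ⟨g, hg, rfl⟩ v
    rw [SetLike.mem_coe, ← hψ] at hg
    obtain ⟨y, rfl⟩ := hg
    unfold qp
    obtain ⟨w, rfl⟩ := θ.surjective v
    have h1 := hθ y w
    change quadFormPlus 4 F (θ.symm ((((P.subtype.comp f.symm.toMonoidHom) y : GL ι F) : Matrix ι ι F) *ᵥ θ w)) = _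
    rw [← h1, LinearEquiv.symm_apply_apply, LinearEquiv.symm_apply_apply]
    exact map_isometry σ (fun v => (ψ0 y).2 v v) w
  refine ⟨h8, card_field hφ hK hC hp hψ hn, ⟨σ.symm⟩, ⟨qp θ, qp_nondeg θ, hfix⟩, fun Q hQ hQP => ?_⟩
  obtain ⟨a, -, ha⟩ := Ad.quad_unique hC (qp_nondeg θ) hfix hQ hQP
  exact Ad.plus_of_smul ha (qp_plus θ)

end final

end Cfsg.Agent.H392.TD
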