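import Cfsg.Agent.Nodes.RGDTwD4
import Cfsg.Agent.Cit.HexD4
import Cfsg.Agent.H911.SLTwoGen
import Cfsg.Agent.ChevalleyStructure.D4H1

/-!
# Relations in the torus of `³D₄(q)` (helper392)

* `hB s = h_{p₁}(s) h_{p₃}(φ s) h_{p₄}(φ² s)`, `hA r = h_{p₂}(r)` (`φ r = r`), in the group `³D₄(q)`;
* `n0_hB`, `n0_hA`, `n1_hB`, `n1_hA` : the actions of the reflections;
* `exists_tor` : every element of the torus is `hB t * hA s`;
* `th` : `SL_2(q³) → ³D₄(q)`, the short node.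
-/

set_option autoImplicit false
set_option linter.unusedSectionVars false

namespace Cfsg.Agent.H392.TD

open Cfsg.Lie Cfsg.Agent.ChevalleyStructure
open Cfsg.Agent.ChevalleyStructure.D4Comm
open Cfsg.Agent.ChevalleyStructure.D4NConj (nR hR nG crt torG hR_eq_torG torG_mul torG_inv nR_eq hR_eq)
open Cfsg.Agent.ChevalleyStructure.D4U Cfsg.Agent.ChevalleyStructure.D4Twisted
open Cfsg.Agent.ChevalleyStructure.D4NCheck

section GLpart

variable {K : Type*} [Field K]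

theorem conj_hR {i s : ℕ} (hi : i < 4) (hs : s < 24) (t : Kˣ) :
    nG K i * hR s (t : K) * (nG K i)⁻¹ = hR (rfl' i s) (t : K) := by
  have h1 : hR s (t : K) = nR s (t : K) * (nR s 1)⁻¹ := hR_eq s _
  have e : nG K i * hR s (t : K) * (nG K i)⁻¹ =
      (nG K i * nR s (t : K) * (nG K i)⁻¹) * (nG K i * nR s 1 * (nG K i)⁻¹)⁻¹ := by
    rw [h1]
    group
  rw [e, D4NConj.nG_conj_nR hi hs, D4NConj.nG_conj_nR hi hs]
  have hlt := D4NConj.rfl'_lt hi hs
  rcases D4NConj.eta_cases hi hs with h | h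
  · rw [h, Int.cast_one, one_mul, mul_one, ← hR_eq]
  · rw [h, Int.cast_neg, Int.cast_one, mul_one, neg_one_mul, nR_eq _ (-(t : K)), nR_eq _ (-1 : K), mul_inv_rev,
      ← mul_assoc, mul_inv_cancel_right]
    have e1 := hR_eq_torG (F := K) hlt (-t)
    have e2 := hR_eq_torG (F := K) hlt (-1 : Kˣ)
    have e3 := hR_eq_torG (F := K) hlt t
    rw [Units.val_neg] at e1
    rw [Units.val_neg, Units.val_one] at e2
    rw [e1, e2, e3, torG_inv, torG_mul]
    congr 1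
    funext j
    rw [Pi.mul_apply, Pi.inv_apply, ← inv_zpow, ← mul_zpow]
    congr 1
    apply Units.ext
    simp

theorem conj_hR' {i s : ℕ} (hi : i < 4) (hs : s < 24) (h2 : rfl' i (rfl' i s) = s) (t : Kˣ) :
    (nG K i)⁻¹ * hR s (t : K) * nG K i = hR (rfl' i s) (t : K) := by
  have h1 := conj_hR hi (D4NConj.rfl'_lt hi hs) t
  rw [h2] at h1
  rw [← h1]
  group

theorem hR_mul_of {r s u : ℕ} (hr : r < 24) (hs : s < 24) (hu : u < 24)
    (h : ∀ i : Fin 4, crt u i = crt r i + crt s i) (t : Kˣ) : (hR u (t : K)) = hR r (t : K) * hR s (t : K) := by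
  rw [hR_eq_torG hr, hR_eq_torG hs, hR_eq_torG hu, torG_mul]
  congr 1
  funext i
  rw [Pi.mul_apply, ← zpow_add, h i]

theorem hR_neg {r u : ℕ} (hr : r < 24) (hu : u < 24)
    (h : ∀ i : Fin 4, crt u i = -crt r i) (t : Kˣ) : (hR u (t : K)) = hR r ((t⁻¹ : Kˣ) : K) := by
  rw [hR_eq_torG hr, hR_eq_torG hu]
  congr 1
  funext i
  rw [h i, zpow_neg, inv_zpow]

theorem hR_comm {r s : ℕ} (hr : r < 24) (hs : s < 24) (t u : Kˣ) :
    (hR r (t : K)) * hR s (u : K) = hR s (u : K) * hR r (t : K) := by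
  rw [hR_eq_torG hr, hR_eq_torG hs, torG_mul, torG_mul, mul_comm]

theorem hR_mul {r : ℕ} (hr : r < 24) (t u : Kˣ) :
    (hR r (t : K)) * hR r (u : K) = hR r ((t * u : Kˣ) : K) := by
  rw [hR_eq_torG hr, hR_eq_torG hr, hR_eq_torG hr, torG_mul]
  congr 1
  funext i
  rw [Pi.mul_apply, mul_zpow]

theorem hR_one {r : ℕ} (hr : r < 24) : (hR r (1 : K)) = 1 := by
  have := hR_eq_torG (F := K) hr 1
  rw [Units.val_one] at this
  rw [this, ← D4NConj.torG_one]
  congr 1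
  funext i
  exact one_zpow _

theorem cj3 {G : Type*} [Group G] (n a b c : G) : n⁻¹ * (a * b * c) * n = (n⁻¹ * a * n) * (n⁻¹ * b * n) * (n⁻¹ * c * n) := by
  group

variable (φ : K →+* K)

/-- the action on the units -/
def fu : Kˣ →* Kˣ := Units.map (φ : K →* K)

@[simp] theorem coe_fu (s : Kˣ) : ((fu φ s : Kˣ) : K) = φ s := rfl

/-- the norm -/
def Nm : Kˣ →* Kˣ := MonoidHom.mk' (fun s => s * fu φ s * fu φ (fu φ s)) fun a b => by
  simp only [map_mul]
  generalize fu φ (fu φ a) = a2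
  generalize fu φ (fu φ b) = b2
  generalize fu φ a = a1
  generalize fu φ b = b1
  apply Units.ext
  simp only [Units.val_mul]
  ring

theorem Nm_apply (s : Kˣ) : Nm φ s = s * fu φ s * fu φ (fu φ s) := rfl

theorem hb_def (s : Kˣ) : hb φ (s : K) = hR 18 (s : K) * hR 13 ((fu φ s : Kˣ) : K) * hR 12 ((fu φ (fu φ s) : Kˣ) : K) := rfl

theorem conj_na {s u : ℕ} (hs : s < 24) (hu : u < 24) (h1 : rfl' 1 s = u) (h2 : rfl' 1 u = s)
    (h3 : ∀ i : Fin 4, crt u i = crt s i + crt 14 i) (t : Kˣ) :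
    (na K)⁻¹ * hR s (t : K) * na K = hR s (t : K) * hR 14 (t : K) := by
  have h := conj_hR' (K := K) (i := 1) (s := s) (by norm_num) hs (by rw [h1, h2]) t
  rw [h1, hR_mul_of hs (by norm_num) hu h3] at h
  exact h

theorem na_hb (s : Kˣ) : (na K)⁻¹ * hb φ (s : K) * na K = hb φ (s : K) * hR 14 ((Nm φ s : Kˣ) : K) := by
  have e1 := conj_na (K := K) (s := 18) (u := 19) (by norm_num) (by norm_num) (by decide +kernel) (by decide +kernel)
    (by decide +kernel) s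
  have e2 := conj_na (K := K) (s := 13) (u := 16) (by norm_num) (by norm_num) (by decide +kernel) (by decide +kernel)
    (by decide +kernel) (fu φ s)
  have e3 := conj_na (K := K) (s := 12) (u := 15) (by norm_num) (by norm_num) (by decide +kernel) (by decide +kernel)
    (by decide +kernel) (fu φ (fu φ s))
  have c1 := hR_comm (K := K) (r := 14) (s := 13) (by norm_num) (by norm_num) s (fu φ s)
  have c2 := hR_comm (K := K) (r := 14) (s := 12) (by norm_num) (by norm_num) s (fu φ (fu φ s))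
  have c3 := hR_comm (K := K) (r := 14) (s := 12) (by norm_num) (by norm_num) (fu φ s) (fu φ (fu φ s))
  rw [hb_def, cj3, e1, e2, e3, Nm_apply, ← hR_mul (by norm_num), ← hR_mul (by norm_num)]
  generalize hR 18 (s : K) = a at *
  generalize hR 13 ((fu φ s : Kˣ) : K) = b at *
  generalize hR 12 ((fu φ (fu φ s) : Kˣ) : K) = c at *
  generalize hR 14 (s : K) = a' at *
  generalize hR 14 ((fu φ s : Kˣ) : K) = b' at *
  generalize hR 14 ((fu φ (fu φ s) : Kˣ) : K) = c' at *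
  calc a * a' * (b * b') * (c * c') = a * (a' * b) * b' * c * c' := by simp only [mul_assoc]
    _ = a * b * a' * (b' * c) * c' := by rw [c1]; simp only [mul_assoc]
    _ = a * b * (a' * c) * b' * c' := by rw [c3]; simp only [mul_assoc]
    _ = a * b * c * (a' * b' * c') := by rw [c2]; simp only [mul_assoc]

theorem na_hR (r : Kˣ) : (na K)⁻¹ * hR 14 (r : K) * na K = hR 14 ((r⁻¹ : Kˣ) : K) := by
  have h := conj_hR' (K := K) (i := 1) (s := 14) (by norm_num) (by norm_num) (by decide +kernel) r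
  have h1 : rfl' 1 14 = 9 := by decide +kernel
  rw [h1, hR_neg (r := 14) (u := 9) (by norm_num) (by norm_num) (by decide +kernel)] at h
  exact h

theorem cjnb (g : GL chevD4.Idx K) : (nb K)⁻¹ * g * nb K =
    (nG K 3)⁻¹ * ((nG K 2)⁻¹ * ((nG K 0)⁻¹ * g * nG K 0) * nG K 2) * nG K 3 := by
  unfold nb
  group

theorem conj_nb {s a b c : ℕ} (hs : s < 24) (ha : rfl' 0 s = a) (ha' : rfl' 0 a = s) (hb : rfl' 2 a = b)
    (hb' : rfl' 2 b = a) (hc : rfl' 3 b = c) (hc' : rfl' 3 c = b) (hal : a < 24) (hbl : b < 24)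
    (t : Kˣ) : (nb K)⁻¹ * hR s (t : K) * nb K = hR c (t : K) := by
  rw [cjnb, conj_hR' (by norm_num) hs (by rw [ha, ha']), ha, conj_hR' (by norm_num) hal (by rw [hb, hb']), hb,
    conj_hR' (by norm_num) hbl (by rw [hc, hc']), hc]

theorem nb_hb (s : Kˣ) : (nb K)⁻¹ * hb φ (s : K) * nb K = hb φ ((s⁻¹ : Kˣ) : K) := by
  have e1 := conj_nb (K := K) (s := 18) (a := 5) (b := 5) (c := 5) (by norm_num) (by decide +kernel)
    (by decide +kernel) (by decide +kernel) (by decide +kernel) (by decide +kernel) (by decide +kernel)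
    (by norm_num) (by norm_num) s
  have e2 := conj_nb (K := K) (s := 13) (a := 13) (b := 10) (c := 10) (by norm_num) (by decide +kernel)
    (by decide +kernel) (by decide +kernel) (by decide +kernel) (by decide +kernel) (by decide +kernel)
    (by norm_num) (by norm_num) (fu φ s)
  have e3 := conj_nb (K := K) (s := 12) (a := 12) (b := 12) (c := 11) (by norm_num) (by decide +kernel)
    (by decide +kernel) (by decide +kernel) (by decide +kernel) (by decide +kernel) (by decide +kernel)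
    (by norm_num) (by norm_num) (fu φ (fu φ s))
  rw [hR_neg (r := 18) (u := 5) (by norm_num) (by norm_num) (by decide +kernel)] at e1
  rw [hR_neg (r := 13) (u := 10) (by norm_num) (by norm_num) (by decide +kernel)] at e2
  rw [hR_neg (r := 12) (u := 11) (by norm_num) (by norm_num) (by decide +kernel)] at e3
  rw [hb_def, cj3, e1, e2, e3, hb_def, map_inv, map_inv]

theorem nb_hR {r : Kˣ} (hr : fu φ r = r) : (nb K)⁻¹ * hR 14 (r : K) * nb K = hb φ (r : K) * hR 14 (r : K) := by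
  have e1 := conj_nb (K := K) (s := 14) (a := 19) (b := 21) (c := 22) (by norm_num) (by decide +kernel)
    (by decide +kernel) (by decide +kernel) (by decide +kernel) (by decide +kernel) (by decide +kernel)
    (by norm_num) (by norm_num) r
  rw [e1, hb_def, hr, hr, hR_eq_torG (by norm_num), hR_eq_torG (by norm_num), hR_eq_torG (by norm_num),
    hR_eq_torG (by norm_num), hR_eq_torG (by norm_num), torG_mul, torG_mul, torG_mul]
  congr 1
  funext i
  have h : ∀ i : Fin 4, crt 22 i = crt 18 i + crt 13 i + crt 12 i + crt 14 i := by decide +kernel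
  simp only [Pi.mul_apply]
  rw [← zpow_add, ← zpow_add, ← zpow_add, h i]

end GLpart

section Ypart

variable {K : Type*} [Field K] {q : ℕ} {φ : K →+* K} (hφ : ∀ x, φ x = x ^ q)

/-- the torus elements of the short node -/
noncomputable def hB (s : Kˣ) : ↥(twistedD4 K q) := ⟨hb φ (s : K), hb_mem hφ _⟩

/-- the torus elements of the long node -/
noncomputable def hA (r : Kˣ) (hr : fu φ r = r) : ↥(twistedD4 K q) :=
  ⟨hR 14 (r : K), D4Twisted.h14_mem hφ (congrArg Units.val hr)⟩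

theorem coe_hB (s : Kˣ) : (hB hφ s : GL chevD4.Idx K) = hb φ (s : K) := rfl
theorem coe_hA (r : Kˣ) (hr : fu φ r = r) : (hA hφ r hr : GL chevD4.Idx K) = hR 14 (r : K) := rfl

theorem fu_Nm (h3 : ∀ t : K, φ (φ (φ t)) = t) (s : Kˣ) : fu φ (Nm φ s) = Nm φ s := by
  have h : fu φ (fu φ (fu φ s)) = s := Units.ext (h3 s)
  rw [Nm_apply, map_mul, map_mul, h]
  apply Units.ext
  simp only [Units.val_mul]
  ring

theorem n0_hB (h3 : ∀ t : K, φ (φ (φ t)) = t) (s : Kˣ) :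
    (Nodes.RGDTwD4.n hφ 0)⁻¹ * hB hφ s * Nodes.RGDTwD4.n hφ 0 = hB hφ s * hA hφ (Nm φ s) (fu_Nm h3 s) := by
  apply Subtype.ext
  change (Nodes.RGDFold.nI Nodes.RGDTwD4.hp K (Nodes.RGDTwD4.J 0))⁻¹ * hb φ (s : K) * Nodes.RGDFold.nI Nodes.RGDTwD4.hp K (Nodes.RGDTwD4.J 0) = _
  rw [Nodes.RGDTwD4.nI_zero, na_hb]
  rfl

theorem n0_hA (r : Kˣ) (hr : fu φ r = r) :
    (Nodes.RGDTwD4.n hφ 0)⁻¹ * hA hφ r hr * Nodes.RGDTwD4.n hφ 0 = hA hφ r⁻¹ (by rw [map_inv, hr]) := by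
  apply Subtype.ext
  change (Nodes.RGDFold.nI Nodes.RGDTwD4.hp K (Nodes.RGDTwD4.J 0))⁻¹ * hR 14 (r : K) * Nodes.RGDFold.nI Nodes.RGDTwD4.hp K (Nodes.RGDTwD4.J 0) = _
  rw [Nodes.RGDTwD4.nI_zero, na_hR]
  rfl

theorem n1_hB (s : Kˣ) :
    (Nodes.RGDTwD4.n hφ 1)⁻¹ * hB hφ s * Nodes.RGDTwD4.n hφ 1 = hB hφ s⁻¹ := by
  apply Subtype.ext
  change (Nodes.RGDFold.nI Nodes.RGDTwD4.hp K (Nodes.RGDTwD4.J 1))⁻¹ * hb φ (s : K) * Nodes.RGDFold.nI Nodes.RGDTwD4.hp K (Nodes.RGDTwD4.J 1) = _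
  rw [Nodes.RGDTwD4.nI_one, nb_hb]
  rfl

theorem n1_hA (r : Kˣ) (hr : fu φ r = r) :
    (Nodes.RGDTwD4.n hφ 1)⁻¹ * hA hφ r hr * Nodes.RGDTwD4.n hφ 1 = hB hφ r * hA hφ r hr := by
  apply Subtype.ext
  change (Nodes.RGDFold.nI Nodes.RGDTwD4.hp K (Nodes.RGDTwD4.J 1))⁻¹ * hR 14 (r : K) * Nodes.RGDFold.nI Nodes.RGDTwD4.hp K (Nodes.RGDTwD4.J 1) = _
  rw [Nodes.RGDTwD4.nI_one, nb_hR φ hr]
  rfl

theorem hB_mul (s t : Kˣ) : hB hφ s * hB hφ t = hB hφ (s * t) := by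
  apply Subtype.ext
  change hb φ (s : K) * hb φ (t : K) = hb φ ((s * t : Kˣ) : K)
  rw [hb_def, hb_def, hb_def]
  simp only [hR_eq_torG (show 18 < 24 by norm_num), hR_eq_torG (show 13 < 24 by norm_num),
    hR_eq_torG (show 12 < 24 by norm_num), torG_mul, map_mul]
  congr 1
  funext i
  simp only [Pi.mul_apply, mul_zpow]
  apply Units.ext
  simp only [Units.val_mul]
  ring

theorem hA_mul (s t : Kˣ) (hs : fu φ s = s) (ht : fu φ t = t) :
    hA hφ s hs * hA hφ t ht = hA hφ (s * t) (by rw [map_mul, hs, ht]) := by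
  apply Subtype.ext
  exact hR_mul (by norm_num) s t

theorem hB_mem (s : Kˣ) : hB hφ s ∈ Nodes.RGDTwD4.T K q :=
  Subgroup.mem_subgroupOf.2 ⟨hb_mem_diagonal φ s.ne_zero, (hB hφ s).2⟩

theorem hA_mem (r : Kˣ) (hr : fu φ r = r) : hA hφ r hr ∈ Nodes.RGDTwD4.T K q :=
  Subgroup.mem_subgroupOf.2 ⟨D4RGD.hR_mem (by norm_num) r.ne_zero, (hA hφ r hr).2⟩

include hφ in
theorem exists_hel [Fintype K] (hq : IsPrimePow q) (hK : Fintype.card K = q ^ 3) {g : GL chevD4.Idx K}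
    (hg : g ∈ chevD4.diagonalSubgroup K ⊓ twistedD4 K q) :
    ∃ t s : Kˣ, φ (s : K) = s ∧ D4H1.hel φ t s = g := by
  have hfin : Finite (GL chevD4.Idx K) := inferInstance
  let F : Kˣ × {b : Kˣ // φ b = b} → ↥(chevD4.diagonalSubgroup K ⊓ twistedD4 K q) := fun p =>
    ⟨D4H1.hel φ p.1 p.2.1, D4H1.hel_mem_diagonal _ _, D4H1.hel_mem_twisted hφ _ _ p.2.2⟩
  have hinj : Function.Injective F := by
    intro p p' h
    have h' := D4H1.hel_injective p.2.2 p'.2.2 (congrArg Subtype.val h)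
    exact Prod.ext h'.1 (Subtype.ext h'.2)
  have hc : Nat.card ↥(chevD4.diagonalSubgroup K ⊓ twistedD4 K q) ≤ Nat.card (Kˣ × {b : Kˣ // φ b = b}) := by
    rw [Nat.card_prod, D4H1.card_fixed hq.one_lt hK hφ, D4H1.natCard_units hK, mul_comm, D4H1.card_H1 hq hK hφ]
  obtain ⟨p, hp⟩ := (hinj.bijective_of_nat_card_le hc).2 ⟨g, hg⟩
  exact ⟨p.1, p.2.1, p.2.2, congrArg Subtype.val hp⟩

theorem wU_hWord' {r : ℕ} (hr : r < 24) (t : K) : D4Cols.wU (chevD4.hWord r t) = hR r t :=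
  Units.ext ((D4H1.coe_wU_hWord r t).trans (D4NConj.coe_hR hr t).symm)

/-- **Every element of the torus is `hB t * hA s`.** -/
theorem exists_tor [Fintype K] (hq : IsPrimePow q) (hK : Fintype.card K = q ^ 3) {g : ↥(twistedD4 K q)}
    (hg : g ∈ Nodes.RGDTwD4.T K q) : ∃ (t s : Kˣ) (hs : fu φ s = s), g = hB hφ t * hA hφ s hs := by
  obtain ⟨t, s, hs, e⟩ := exists_hel hφ hq hK (Subgroup.mem_subgroupOf.1 hg)
  refine ⟨t, s, Units.ext hs, Subtype.ext ?_⟩
  rw [← e, D4H1.hel_eq, wU_hWord' (by norm_num), wU_hWord' (by norm_num), wU_hWord' (by norm_num),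
    wU_hWord' (by norm_num)]
  rfl

/-! ### the homomorphism of the short node -/

open Cfsg.Agent.H911.SLTwo (U Lo hh ww)

/-- the homomorphism of the short node -/
noncomputable def th : Matrix.SpecialLinearGroup (Fin 2) K →* ↥(twistedD4 K q) :=
  (Cit.HexD4.pb0 φ).codRestrict _ (Cit.HexD4.pb0_mem hφ)

theorem coe_th (g : Matrix.SpecialLinearGroup (Fin 2) K) : (th hφ g : GL chevD4.Idx K) = Cit.HexD4.pb0 φ g := rfl

theorem U_eq (t : K) : U t = Lib.SL2Mat.up t := Subtype.ext rfl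
theorem Lo_eq (t : K) : Lo t = Lib.SL2Mat.lo t := Subtype.ext rfl
theorem hh_eq (s : Kˣ) : hh s = Lib.SL2Mat.dg (s : K) s.ne_zero := by
  apply Subtype.ext
  change !![(s : K), 0; 0, ((s⁻¹ : Kˣ) : K)] = !![(s : K), 0; 0, (s : K)⁻¹]
  rw [Units.val_inv_eq_inv_val]
theorem ww_eq : (ww : Matrix.SpecialLinearGroup (Fin 2) K) = Lib.SL2Mat.wm 1 one_ne_zero := by
  apply Subtype.ext
  change !![(0 : K), 1; -1, 0] = !![0, 1; -(1 : K)⁻¹, 0]
  rw [inv_one]

theorem th_hh (s : Kˣ) : th hφ (hh s) = hB hφ s := by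
  apply Subtype.ext
  rw [coe_th, hh_eq, Cit.HexD4.pb0_dg]
  rfl

theorem th_ww : th hφ ww = Nodes.RGDTwD4.n hφ 1 := by
  apply Subtype.ext
  rw [coe_th, ww_eq, Cit.HexD4.pb0_wm, ← nb_eq, ← Nodes.RGDTwD4.nI_one]
  rfl

theorem th_U (hle : twistedD4 K q ≤ D4Fixed.fix φ) (t : K) : th hφ (U t) ∈ Nodes.RGDTwD4.X φ q (Tits.Roots.sr 1) := by
  refine Subgroup.mem_subgroupOf.2 ?_
  rw [coe_th, U_eq, Cit.HexD4.pb0_up, Nodes.RGDTwD4.R1]
  exact ⟨X_mem_RS t, hle (D4Fixed.X_mem hφ t)⟩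

theorem th_Lo (hle : twistedD4 K q ≤ D4Fixed.fix φ) (t : K) :
    th hφ (Lo t) ∈ Nodes.RGDTwD4.X φ q (-Tits.Roots.sr 1) := by
  refine Subgroup.mem_subgroupOf.2 ?_
  rw [coe_th, Lo_eq, Cit.HexD4.pb0_lo, Nodes.RGDTwD4.R1']
  exact ⟨Hexagon.TwD4RGD.Y_mem_RS t, hle (D4Fixed.Y_mem hφ t)⟩

end Ypart

end Cfsg.Agent.H392.TD
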