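import Cfsg.Agent.H392.TD.Count
import Cfsg.Agent.H392.TD.Rel
import Cfsg.Agent.H905.MdD

/-!
# `³D₄(q)` in its own characteristic: the count of the weights (helper392)
-/

set_option autoImplicit false
set_option linter.unusedSectionVars false
set_option linter.style.haveILetI false

namespace Cfsg.Agent.H392.TD

open CoxeterSystem Cfsg.Agent.ChevalleyStructure.CoxeterGeom Cfsg.Agent.Tits.Roots Cfsg.Agent.Tits.Core
  Cfsg.Agent.Tits.Exchange Cfsg.Agent.Nodes.Reps Cfsg.Agent.Nodes.BNOf Cfsg.Agent.Nodes.StabComb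
  Cfsg.Agent.Nodes.Bruhat Cfsg.Agent.Nodes.OppDec Cfsg.Agent.Nodes.LeviDec Cfsg.Agent.KFacts.RgdOpp
  Cfsg.Agent.Omega.CR Cfsg.Agent.Omega.FOne.Lift.Sd Cfsg.Agent.H905.Md Cfsg.Agent.H875.Fn
open Cfsg.Lie Cfsg.Agent.ChevalleyStructure
open Cfsg.Agent.H911.SLTwo (U Lo hh ww)

/-- the Coxeter system -/
abbrev cs : CoxeterSystem CoxeterMatrix.G₂ CoxeterMatrix.G₂.Group := CoxeterMatrix.G₂.toCoxeterSystem

theorem finiteG : Finite CoxeterMatrix.G₂.Group :=
  Nodes.RGDFold.finite_W (hp := Nodes.RGDTwD4.hp) cs Nodes.RGDTwD4.isCartan Nodes.RGDTwD4.foldData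

/-- the action of a word on the root lattice -/
def actL (l : List (Fin 2)) (x : Fin 2 → ℤ) : Fin 2 → ℤ :=
  l.foldr (fun i y => y - pairing Nodes.RGDTwD4.A i y • sr i) x

theorem rep_wd (l : List (Fin 2)) (x : Fin 2 → ℤ) : rep cs Nodes.RGDTwD4.isCartan (cs.wordProd l) x = actL l x := by
  induction l with
  | nil => rw [wordProd_nil, map_one]; rfl
  | cons i l ih =>
    rw [wordProd_cons, rep_mul_apply, ih, rep_simple_eq]
    rfl

theorem wd_notMem {l : List (Fin 2)} {J : Set (Fin 2)} {i : Fin 2} (hi : i ∉ J) {x : Fin 2 → ℤ} (h : actL l x i ≠ x i) :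
    cs.wordProd l ∉ WJ cs J := fun hl => h (by
  rw [← rep_wd]
  exact coord_of_mem_WJ (h := Nodes.RGDTwD4.isCartan) hl x hi)

/-- the six words -/
def W6 : Fin 6 → List (Fin 2) := ![[], [0], [0, 1], [0, 1, 0], [0, 1, 0, 1], [0, 1, 0, 1, 0]]

theorem pos6 : ∀ a, ∀ i, 0 ≤ actL (W6 a).reverse (sr 1) i := by decide +kernel

/-- the test for the coordinate `i` -/
def tst (i : Fin 2) (l : List (Fin 2)) : Bool :=
  decide (actL l (sr 0) i ≠ (sr 0 : Fin 2 → ℤ) i) || decide (actL l (sr 1) i ≠ (sr 1 : Fin 2 → ℤ) i)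

theorem notMem_of_tst {l : List (Fin 2)} {J : Set (Fin 2)} {i : Fin 2} (hi : i ∉ J) (h : tst i l = true) :
    cs.wordProd l ∉ WJ cs J := by
  unfold tst at h
  rw [Bool.or_eq_true, decide_eq_true_eq, decide_eq_true_eq] at h
  rcases h with h | h
  · exact wd_notMem hi h
  · exact wd_notMem hi h

theorem test1 : ∀ a b : Fin 6, a ≠ b → tst 0 ((W6 a).reverse ++ W6 b) = true ∨ tst 1 ((W6 a).reverse ++ W6 b) = true := by
  decide +kernel

theorem test2 : ∀ a b : Fin 6, tst 0 ((W6 a).reverse ++ (1 :: W6 b)) = true ∨ tst 1 ((W6 a).reverse ++ (1 :: W6 b)) = true := by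
  decide +kernel

theorem test3 : ∀ a b : Fin 3, a ≠ b → tst 1 ((W6 (2 * a.castLE (by norm_num))).reverse ++ W6 (2 * b.castLE (by norm_num))) = true := by
  decide +kernel

theorem test4 : ∀ a b : Fin 3, tst 1 ((W6 (2 * a.castLE (by norm_num))).reverse ++ (1 :: W6 (2 * b.castLE (by norm_num)))) = true := by
  decide +kernel

theorem test5 : ∀ a b : Fin 2, a ≠ b → tst 0 ((W6 (2 * a.castLE (by norm_num) + 1)).reverse ++ W6 (2 * b.castLE (by norm_num) + 1)) = true := by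
  decide +kernel

theorem test6 : ∀ a b : Fin 2, tst 0 ((W6 (2 * a.castLE (by norm_num) + 1)).reverse ++ (1 :: W6 (2 * b.castLE (by norm_num) + 1))) = true := by
  decide +kernel

/-! ### the conjugates of the torus -/

section act

variable {K : Type*} [Field K] {q : ℕ} {φ : K →+* K} (hφ : ∀ x, φ x = x ^ q) (h3 : ∀ t : K, φ (φ (φ t)) = t)

/-- the representatives -/
def gw (l : List (Fin 2)) : ↥(twistedD4 K q) := (l.map (Nodes.RGDTwD4.n hφ)).prod

theorem gw_nil : gw hφ [] = 1 := rfl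

theorem gw_cons (i : Fin 2) (l : List (Fin 2)) : gw hφ (i :: l) = Nodes.RGDTwD4.n hφ i * gw hφ l := by
  unfold gw
  rw [List.map_cons, List.prod_cons]

theorem cj_cons (i : Fin 2) (l : List (Fin 2)) (g : ↥(twistedD4 K q)) : (gw hφ (i :: l))⁻¹ * g * gw hφ (i :: l) =
    (gw hφ l)⁻¹ * ((Nodes.RGDTwD4.n hφ i)⁻¹ * g * Nodes.RGDTwD4.n hφ i) * gw hφ l := by
  rw [gw_cons]
  group

/-- `hB u * hA v` -/
noncomputable def el (u v : Kˣ) (hv : fu φ v = v) : ↥(twistedD4 K q) := hB hφ u * hA hφ v hv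

theorem hA_one : hA hφ 1 (map_one _) = 1 := by
  apply Subtype.ext
  change D4NConj.hR 14 ((1 : Kˣ) : K) = 1
  rw [Units.val_one]
  exact hR_one (by norm_num)

theorem el_one (s : Kˣ) : hB hφ s = el hφ s 1 (map_one _) := by
  unfold el
  rw [hA_one, mul_one]

theorem hA_congr {r r' : Kˣ} (e : r = r') (hr : fu φ r = r) (hr' : fu φ r' = r') : hA hφ r hr = hA hφ r' hr' := by
  subst e; rfl

theorem el_congr {u u' v v' : Kˣ} (e : u = u') (e' : v = v') (hv : fu φ v = v) (hv' : fu φ v' = v') :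
    el hφ u v hv = el hφ u' v' hv' := by
  subst e e'; rfl

include h3 in
theorem n0_el (u v : Kˣ) (hv : fu φ v = v) : (Nodes.RGDTwD4.n hφ 0)⁻¹ * el hφ u v hv * Nodes.RGDTwD4.n hφ 0 =
    el hφ u (Nm φ u * v⁻¹) (by rw [map_mul, map_inv, hv, fu_Nm h3]) := by
  have e : (Nodes.RGDTwD4.n hφ 0)⁻¹ * el hφ u v hv * Nodes.RGDTwD4.n hφ 0 =
      ((Nodes.RGDTwD4.n hφ 0)⁻¹ * hB hφ u * Nodes.RGDTwD4.n hφ 0) *
      ((Nodes.RGDTwD4.n hφ 0)⁻¹ * hA hφ v hv * Nodes.RGDTwD4.n hφ 0) := by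
    unfold el
    group
  rw [e, n0_hB hφ h3, n0_hA, mul_assoc, hA_mul]
  rfl

theorem n1_el (u v : Kˣ) (hv : fu φ v = v) : (Nodes.RGDTwD4.n hφ 1)⁻¹ * el hφ u v hv * Nodes.RGDTwD4.n hφ 1 =
    el hφ (u⁻¹ * v) v hv := by
  have e : (Nodes.RGDTwD4.n hφ 1)⁻¹ * el hφ u v hv * Nodes.RGDTwD4.n hφ 1 =
      ((Nodes.RGDTwD4.n hφ 1)⁻¹ * hB hφ u * Nodes.RGDTwD4.n hφ 1) *
      ((Nodes.RGDTwD4.n hφ 1)⁻¹ * hA hφ v hv * Nodes.RGDTwD4.n hφ 1) := by
    unfold el
    group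
  rw [e, n1_hB, n1_hA, ← mul_assoc, hB_mul]
  rfl

/-- the exponents -/
def ex (q m l : ℕ) : Fin 6 → ℕ := ![m, m + l * (1 + q + q ^ 2), m * (q + q ^ 2) + l * (1 + q + q ^ 2),
  m * (q + q ^ 2) + l * (1 + q + q ^ 2), m + l * (1 + q + q ^ 2), m]

include hφ in
theorem fu_eq (s : Kˣ) : fu φ s = s ^ q := Units.ext (by rw [coe_fu, hφ, Units.val_pow_eq_pow_val])

include hφ in
theorem Nm_eq (s : Kˣ) : Nm φ s = s ^ (1 + q + q ^ 2) := by
  rw [Nm_apply, fu_eq hφ, fu_eq hφ, ← pow_mul, pow_add, pow_add, pow_one, pow_two q]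

include h3 in
/-- **The conjugates.** -/
theorem conj6 (a : Fin 6) (s : Kˣ) {k : Type*} [Field k] (j : K →+* k) (m l : ℕ) :
    ∃ (u v : Kˣ) (hv : fu φ v = v), (gw hφ (W6 a))⁻¹ * hB hφ s * gw hφ (W6 a) = el hφ u v hv ∧
      j (u : K) ^ m * j (v : K) ^ l = j (s : K) ^ ex q m l a := by
  have hN := fu_Nm h3 s
  have e5 : Nm φ (s⁻¹ * Nm φ s) = Nm φ s * Nm φ s := by
    have e : Nm φ (Nm φ s) = Nm φ s * Nm φ s * Nm φ s := by
      rw [Nm_apply φ (Nm φ s), hN, hN]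
    rw [map_mul, map_inv, e]
    group
  have hjN : j ((Nm φ s : Kˣ) : K) = j (s : K) ^ (1 + q + q ^ 2) := by
    rw [Nm_eq hφ, Units.val_pow_eq_pow_val, map_pow]
  have hju : j ((s⁻¹ * Nm φ s : Kˣ) : K) = j (s : K) ^ (q + q ^ 2) := by
    have : s⁻¹ * Nm φ s = s ^ (q + q ^ 2) := by
      rw [Nm_eq hφ, show 1 + q + q ^ 2 = 1 + (q + q ^ 2) by ring, pow_add, pow_one, inv_mul_cancel_left]
    rw [this, Units.val_pow_eq_pow_val, map_pow]
  have k0 : (gw hφ (W6 0))⁻¹ * hB hφ s * gw hφ (W6 0) = el hφ s 1 (map_one _) := by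
    change (gw hφ [])⁻¹ * hB hφ s * gw hφ [] = _
    rw [gw_nil, inv_one, one_mul, mul_one, el_one]
  have kstep : ∀ l' : List (Fin 2), (gw hφ (l' ++ [0]))⁻¹ * hB hφ s * gw hφ (l' ++ [0]) =
      (Nodes.RGDTwD4.n hφ 0)⁻¹ * ((gw hφ l')⁻¹ * hB hφ s * gw hφ l') * Nodes.RGDTwD4.n hφ 0 := by
    intro l'
    unfold gw
    rw [List.map_append, List.prod_append, List.map_singleton, List.prod_singleton]
    group
  have kstep1 : ∀ l' : List (Fin 2), (gw hφ (l' ++ [1]))⁻¹ * hB hφ s * gw hφ (l' ++ [1]) =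
      (Nodes.RGDTwD4.n hφ 1)⁻¹ * ((gw hφ l')⁻¹ * hB hφ s * gw hφ l') * Nodes.RGDTwD4.n hφ 1 := by
    intro l'
    unfold gw
    rw [List.map_append, List.prod_append, List.map_singleton, List.prod_singleton]
    group
  have k1 : (gw hφ (W6 1))⁻¹ * hB hφ s * gw hφ (W6 1) = el hφ s (Nm φ s) hN := by
    have := kstep (W6 0)
    rw [k0, n0_el hφ h3] at this
    refine Eq.trans this (el_congr hφ rfl ?_ _ _)
    rw [inv_one, mul_one]
  have k2 : (gw hφ (W6 2))⁻¹ * hB hφ s * gw hφ (W6 2) = el hφ (s⁻¹ * Nm φ s) (Nm φ s) hN := by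
    have := kstep1 (W6 1)
    rw [k1, n1_el hφ] at this
    exact this
  have k3 : (gw hφ (W6 3))⁻¹ * hB hφ s * gw hφ (W6 3) = el hφ (s⁻¹ * Nm φ s) (Nm φ s) hN := by
    have := kstep (W6 2)
    rw [k2, n0_el hφ h3] at this
    refine Eq.trans this (el_congr hφ rfl ?_ _ _)
    rw [e5, mul_inv_cancel_right]
  have k4 : (gw hφ (W6 4))⁻¹ * hB hφ s * gw hφ (W6 4) = el hφ s (Nm φ s) hN := by
    have := kstep1 (W6 3)
    rw [k3, n1_el hφ] at this
    refine Eq.trans this (el_congr hφ ?_ rfl _ _)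
    rw [mul_inv_rev, inv_inv, mul_assoc, mul_comm s, inv_mul_cancel_left]
  have k5 : (gw hφ (W6 5))⁻¹ * hB hφ s * gw hφ (W6 5) = el hφ s 1 (map_one _) := by
    have := kstep (W6 4)
    rw [k4, n0_el hφ h3] at this
    refine Eq.trans this (el_congr hφ rfl ?_ _ _)
    rw [mul_inv_cancel]
  have z0 : j (s : K) ^ m * j ((1 : Kˣ) : K) ^ l = j (s : K) ^ m := by
    rw [Units.val_one, map_one, one_pow, mul_one]
  have z1 : j (s : K) ^ m * j ((Nm φ s : Kˣ) : K) ^ l = j (s : K) ^ (m + l * (1 + q + q ^ 2)) := by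
    rw [hjN, ← pow_mul, ← pow_add, mul_comm l]
  have z2 : j ((s⁻¹ * Nm φ s : Kˣ) : K) ^ m * j ((Nm φ s : Kˣ) : K) ^ l =
      j (s : K) ^ (m * (q + q ^ 2) + l * (1 + q + q ^ 2)) := by
    rw [hjN, hju, ← pow_mul, ← pow_mul, ← pow_add, mul_comm l, mul_comm m]
  fin_cases a
  · exact ⟨_, _, _, k0, z0⟩
  · exact ⟨_, _, _, k1, z1⟩
  · exact ⟨_, _, _, k2, z2⟩
  · exact ⟨_, _, _, k3, z2⟩
  · exact ⟨_, _, _, k4, z1⟩
  · exact ⟨_, _, _, k5, z0⟩

end act

/-! ### the count -/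

/-- the exponent between `1` and `N` -/
def red (N e : ℕ) : ℕ := if e % N = 0 then N else e % N

theorem red_ne {N : ℕ} (hN : 0 < N) (e : ℕ) : red N e ≠ 0 := by
  unfold red
  split_ifs with h
  · omega
  · exact h

theorem red_le {N : ℕ} (hN : 0 < N) (e : ℕ) : red N e ≤ N := by
  unfold red
  split_ifs with h
  · exact le_rfl
  · exact (Nat.mod_lt _ hN).le

theorem red_mod (N e : ℕ) : red N e % N = e % N := by
  unfold red
  split_ifs with h
  · rw [Nat.mod_self, h]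
  · exact Nat.mod_mod _ _

theorem pow_red {G : Type*} [Group G] {N : ℕ} {s : G} (hs : s ^ N = 1) (e : ℕ) : s ^ red N e = s ^ e :=
  pow_eq_pow_iff_modEq.2 (Nat.ModEq.of_dvd (orderOf_dvd_of_pow_eq_one hs) (red_mod N e))

section cnt

variable {K : Type*} [Field K] [Fintype K] {q : ℕ} {φ : K →+* K} (hφ : ∀ x, φ x = x ^ q)
  (hK : Fintype.card K = q ^ 3)
  {k V : Type*} [Field k] (j : K →+* k) [AddCommGroup V] [Module k V] [FiniteDimensional k V] [Nontrivial V]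
  {p : ℕ} [Fact p.Prime] [CharP K p] [CharP k p] {ρ : ↥(twistedD4 K q) →* Module.End k V}
  (hirr : ∀ L : Submodule k V, Ivt ρ (GG cs Nodes.RGDTwD4.isCartan (Nodes.RGDTwD4.T K q) (Nodes.RGDTwD4.X φ q)) L →
    L = ⊥ ∨ L = ⊤)
  {c : V} (hc : c ∈ D cs Nodes.RGDTwD4.isCartan (Nodes.RGDTwD4.X φ q) ρ) (hc0 : c ≠ 0)
  {m l : ℕ} (hBc : ∀ s : Kˣ, ρ (hB hφ s) c = (j (s : K) ^ m) • c)
  (hAc : ∀ (r : Kˣ) (hr : fu φ r = r), ρ (hA hφ r hr) c = (j (r : K) ^ l) • c)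

include hK hφ in
theorem phi3 (t : K) : φ (φ (φ t)) = t := by
  rw [hφ, hφ, hφ, ← pow_mul, ← pow_mul]
  have : q * (q * q) = q ^ 3 := by ring
  rw [this, ← hK]
  exact FiniteField.pow_card t

omit [Fintype K] [Nontrivial V] [FiniteDimensional k V] [Fact p.Prime] [CharP K p] [CharP k p] in
include hBc hAc in
theorem rho_el (u v : Kˣ) (hv : fu φ v = v) :
    ρ (el hφ u v hv) c = (j (u : K) ^ m * j (v : K) ^ l) • c := by
  unfold el
  rw [rho_mul, hAc, map_smul, hBc, smul_smul, mul_comm]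

include hK hirr hc hc0 hBc hAc

/-- **The count.** -/
theorem cnt {α : Type} [Fintype α] [DecidableEq α] (w : α → Fin 6)
    (h1 : ∀ a b, a ≠ b → cs.wordProd ((W6 (w a)).reverse ++ W6 (w b)) ∉
      WJ cs (Jx cs Nodes.RGDTwD4.isCartan (Nodes.RGDTwD4.X φ q) ρ))
    (h2 : ∀ a b, cs.wordProd ((W6 (w a)).reverse ++ (1 :: W6 (w b))) ∉
      WJ cs (Jx cs Nodes.RGDTwD4.isCartan (Nodes.RGDTwD4.X φ q) ρ)) :
    ∑ a, (SS p (red (q ^ 3 - 1) (ex q m l (w a)))).card ≤ Module.finrank k V := by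
  classical
  have h3 := phi3 hφ hK
  have hle := D4Fixed.twisted_le_fix hK hφ
  have hW : Finite CoxeterMatrix.G₂.Group := finiteG
  have hY : Finite ↥(twistedD4 K q) := inferInstance
  have R := Nodes.RGDTwD4.rgd (K := K) cs hK hφ p
  have hN : 0 < q ^ 3 - 1 := by
    rw [← hK]
    have := Fintype.one_lt_card (α := K)
    omega
  have hrp : ∀ l : List (Fin 2), Rp cs R.nsys (cs.wordProd l) (gw hφ l) := by
    intro l
    induction l with
    | nil => rw [wordProd_nil, gw_nil]; exact rp_one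
    | cons i l ih =>
      rw [wordProd_cons, gw_cons]
      exact (rp_simple cs R.nsys i).mul ih
  refine count j R hirr (i := 1) (th hφ) (th_U hφ hle) (th_Lo hφ hle) (by rw [th_ww]; exact rp_simple cs R.nsys 1)
    hc hc0 (fun a => cs.wordProd (W6 (w a))) (fun a => gw hφ (W6 (w a))) (fun a => hrp _) ?_ ?_ ?_
    (fun a => red (q ^ 3 - 1) (ex q m l (w a))) (fun a => red_ne hN _) (fun a => ?_) ?_
  · intro a i
    rw [← wordProd_reverse, rep_wd]
    exact pos6 (w a) i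
  · intro a b hab
    rw [← wordProd_reverse, ← wordProd_append]
    exact h1 a b hab
  · intro a b
    rw [← wordProd_reverse, ← wordProd_cons, ← wordProd_append]
    exact h2 a b
  · rw [hK]
    exact red_le hN _
  · intro a s
    obtain ⟨u, v, hv, e, e'⟩ := conj6 hφ h3 (w a) s j m l
    have e2 : (j (s : K)) ^ red (q ^ 3 - 1) (ex q m l (w a)) = (j (s : K)) ^ ex q m l (w a) := by
      have hs : s ^ (q ^ 3 - 1) = 1 := by
        rw [← hK, ← Fintype.card_units, pow_card_eq_one]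
      have := congrArg (fun x : Kˣ => j (x : K)) (pow_red hs (ex q m l (w a)))
      simpa only [Units.val_pow_eq_pow_val, map_pow] using this
    rw [th_hh, e, rho_el hφ j hBc hAc, e', e2]

end cnt

end Cfsg.Agent.H392.TD
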