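import Cfsg.Agent.H875.SSet
import Cfsg.Agent.H392.TD.Wt

/-!
# Arithmetic of the exponents for `³D₄(q)` (helper392)
-/

set_option autoImplicit false
set_option linter.unusedSectionVars false

namespace Cfsg.Agent.H392.TD

open Cfsg.Agent.H875.Fn

theorem red_eq {N e e' : ℕ} (h : e' ≡ e [MOD N]) (h1 : e' ≠ 0) (h2 : e' ≤ N) : red N e = e' := by
  unfold red
  have h3 : e' % N = e % N := h
  split_ifs with h4
  · rw [h4] at h3
    have := Nat.le_of_dvd (Nat.pos_of_ne_zero h1) (Nat.dvd_of_mod_eq_zero h3)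
    omega
  · rw [← h3]
    apply Nat.mod_eq_of_lt
    rcases Nat.lt_or_ge e' N with h5 | h5
    · exact h5
    · exfalso
      have : e' = N := le_antisymm h2 h5
      rw [this, Nat.mod_self] at h3
      exact h4 h3.symm

section

variable {p : ℕ} [hp : Fact p.Prime]

theorem eq_of_prime {r : ℕ} (hr : r ≠ 0) (h : (SS p r).card.Prime) :
    ∃ t c : ℕ, c ≠ 0 ∧ c < p ∧ r = p ^ t * c ∧ (SS p r).card = c + 1 := by
  obtain ⟨t, c, x, hc, hcp, e⟩ := exists_digit (p := p) hr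
  have h1 : (SS p r).card = (c + 1) * (SS p x).card := by
    rw [e, card_SS_add (t := t + 1) ?_ (Dvd.intro _ rfl), card_SS_digit hcp, card_SS_pow_mul]
    rw [pow_succ]
    exact Nat.mul_lt_mul_of_pos_left hcp (pow_pos hp.out.pos t)
  have h2 : (SS p x).card = 1 := by
    rw [h1] at h
    rcases Nat.prime_mul_iff.1 h with h3 | h3
    · exact h3.2
    · have := h3.2
      omega
  have hx : x = 0 := by
    by_contra hx
    have := two_le_card_SS (p := p) hx
    omega
  refine ⟨t, c, hc, hcp, ?_, ?_⟩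
  · rw [e, hx, mul_zero, add_zero]
  · rw [h1, h2, mul_one]

theorem card_two {a b c : ℕ} (hab : a ≠ b) (hc : c < p) : (SS p (c * (p ^ a + p ^ b))).card = (c + 1) ^ 2 := by
  wlog hlt : a < b generalizing a b with H
  · rw [add_comm]
    exact H hab.symm (by omega)
  have e : c * (p ^ a + p ^ b) = p ^ a * c + p ^ b * c := by ring
  rw [e, card_SS_add (t := a + 1) ?_ ?_, card_SS_digit hc, card_SS_digit hc, pow_two]
  · rw [pow_succ]
    exact Nat.mul_lt_mul_of_pos_left hc (pow_pos hp.out.pos a)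
  · exact Dvd.dvd.mul_right (pow_dvd_pow p hlt) c

theorem le_two {a b c t : ℕ} (hab : a ≠ b) (ha : a < t) (hb : b < t) (hc : c < p) :
    c * (p ^ a + p ^ b) ≤ p ^ t - 1 := by
  wlog hlt : a < b generalizing a b with H
  · rw [add_comm (p ^ a)]
    exact H hab.symm hb ha (by omega)
  have hp1 := hp.out.one_lt
  have h1 : c * p ^ a + p ^ a ≤ p ^ b := by
    have h2 : (c + 1) * p ^ a ≤ p ^ b := by
      calc (c + 1) * p ^ a ≤ p * p ^ a := Nat.mul_le_mul_right _ hc
        _ = p ^ (a + 1) := by rw [pow_succ, mul_comm]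
        _ ≤ p ^ b := Nat.pow_le_pow_right hp.out.pos hlt
    linarith
  have h3 : c * p ^ b + p ^ b ≤ p ^ t := by
    have h2 : (c + 1) * p ^ b ≤ p ^ t := by
      calc (c + 1) * p ^ b ≤ p * p ^ b := Nat.mul_le_mul_right _ hc
        _ = p ^ (b + 1) := by rw [pow_succ, mul_comm]
        _ ≤ p ^ t := Nat.pow_le_pow_right hp.out.pos hb
    linarith
  have h4 : 0 < p ^ a := pow_pos hp.out.pos a
  have h5 : c * (p ^ a + p ^ b) = c * p ^ a + c * p ^ b := by ring
  omega

theorem pow_modEq {t : ℕ} (e : ℕ) : p ^ e ≡ p ^ (e % t) [MOD p ^ t - 1] := by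
  have h1 : p ^ t ≡ 1 [MOD p ^ t - 1] := by
    have h2 : 1 ≤ p ^ t := Nat.one_le_pow _ _ hp.out.pos
    exact ((Nat.modEq_iff_dvd' h2).2 dvd_rfl).symm
  conv_lhs => rw [← Nat.mod_add_div e t, pow_add, pow_mul]
  calc p ^ (e % t) * (p ^ t) ^ (e / t) ≡ p ^ (e % t) * 1 ^ (e / t) [MOD p ^ t - 1] :=
        (Nat.ModEq.refl _).mul (h1.pow _)
    _ = p ^ (e % t) := by rw [one_pow, mul_one]

/-- the third exponent -/
theorem card_third {f t c : ℕ} (hf : 0 < f) (hc0 : c ≠ 0) (hc : c < p) :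
    (SS p (red ((p ^ f) ^ 3 - 1) (p ^ t * c * (p ^ f + (p ^ f) ^ 2)))).card = (c + 1) ^ 2 := by
  have e1 : (p ^ f) ^ 3 = p ^ (f * 3) := by rw [pow_mul]
  have hne : (t + f) % (f * 3) ≠ (t + 2 * f) % (f * 3) := by
    intro h
    have h1 : t + f ≡ t + 2 * f [MOD f * 3] := h
    have h2 : 0 ≡ f [MOD f * 3] := by
      have : t + f + 0 ≡ t + f + f [MOD f * 3] := by
        rw [add_zero]
        convert h1 using 1
        ring
      exact Nat.ModEq.add_left_cancel' _ this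
    have h3 : f * 3 ∣ f := (Nat.modEq_zero_iff_dvd.1 h2.symm)
    have := Nat.le_of_dvd hf h3
    omega
  have hlt1 : (t + f) % (f * 3) < f * 3 := Nat.mod_lt _ (by omega)
  have hlt2 : (t + 2 * f) % (f * 3) < f * 3 := Nat.mod_lt _ (by omega)
  have h4 : red ((p ^ f) ^ 3 - 1) (p ^ t * c * (p ^ f + (p ^ f) ^ 2)) =
      c * (p ^ ((t + f) % (f * 3)) + p ^ ((t + 2 * f) % (f * 3))) := by
    rw [e1]
    apply red_eq
    · have h5 : p ^ t * c * (p ^ f + (p ^ f) ^ 2) = c * (p ^ (t + f) + p ^ (t + 2 * f)) := by ring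
      rw [h5]
      exact (Nat.ModEq.refl c).mul ((pow_modEq _).symm.add (pow_modEq _).symm)
    · have := pow_pos hp.out.pos ((t + f) % (f * 3))
      positivity
    · exact le_two hne hlt1 hlt2 hc
  rw [h4, card_two hne hc]

theorem cop_Q (f : ℕ) (hf : 0 < f) (i : ℕ) : Nat.Coprime (1 + p ^ f + (p ^ f) ^ 2) (p ^ i) := by
  apply Nat.Coprime.pow_right
  rw [Nat.coprime_comm, hp.out.coprime_iff_not_dvd]
  intro h
  have h1 : p ∣ p ^ f := dvd_pow_self p hf.ne'
  have h2 : p ∣ (p ^ f) ^ 2 := dvd_pow h1 two_ne_zero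
  have h3 : p ∣ 1 := by
    have h4 : p ∣ (p ^ f) ^ 2 + (p ^ f + 1) := by
      convert h using 1
      ring
    have h5 := (Nat.dvd_add_right h2).1 h4
    exact (Nat.dvd_add_right h1).1 h5
  exact hp.out.one_lt.ne' (Nat.dvd_one.1 h3)

/-- `1 + q + q²` does not divide `p^i + p^{i'}`, `i, i' < 3f` -/
theorem not_dvd_Q {f i i' : ℕ} (hf : 0 < f) (hi : i < f * 3) (hi' : i' < f * 3) :
    ¬ (1 + p ^ f + (p ^ f) ^ 2) ∣ p ^ i + p ^ i' := by
  wlog hle : i ≤ i' generalizing i i' with H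
  · rw [add_comm (p ^ i)]
    exact H hi' hi (by omega)
  intro h
  obtain ⟨d, rfl⟩ := Nat.exists_eq_add_of_le hle
  have h1 : (1 + p ^ f + (p ^ f) ^ 2) ∣ 1 + p ^ d := by
    have e : p ^ i + p ^ (i + d) = p ^ i * (1 + p ^ d) := by ring
    rw [e] at h
    exact (cop_Q f hf i).dvd_of_dvd_mul_left h
  have hp1 := hp.out.one_lt
  set q := p ^ f with hq
  have hq1 : 1 < q := Nat.one_lt_pow hf.ne' hp1
  rcases Nat.lt_or_ge d (2 * f) with hd | hd
  · have h2 : p ^ d ≤ q ^ 2 := by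
      rw [hq, ← pow_mul, mul_comm f]
      exact Nat.pow_le_pow_right hp.out.pos hd.le
    have h3 := Nat.le_of_dvd (by positivity) h1
    omega
  · obtain ⟨b, rfl⟩ := Nat.exists_eq_add_of_le hd
    have hb : b < f := by omega
    have h2 : p ^ b * p ≤ q := by
      rw [hq, ← pow_succ]
      exact Nat.pow_le_pow_right hp.out.pos hb
    have hb0 : 0 < p ^ b := pow_pos hp.out.pos b
    have h3 : p ^ b + 1 ≤ q := by nlinarith
    have e1 : p ^ (2 * f + b) = q ^ 2 * p ^ b := by rw [hq, ← pow_mul, mul_comm f, pow_add]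
    rw [e1] at h1
    have h4 : (1 + q + q ^ 2) ∣ p ^ b * (1 + q) - 1 := by
      have h5 : p ^ b * (1 + q + q ^ 2) - (1 + q ^ 2 * p ^ b) = p ^ b * (1 + q) - 1 := by
        have : p ^ b * (1 + q + q ^ 2) = p ^ b * (1 + q) + q ^ 2 * p ^ b := by ring
        omega
      rw [← h5]
      exact Nat.dvd_sub (Dvd.intro_left _ rfl) h1
    have h6 : 0 < p ^ b * (1 + q) - 1 := by
      have : 1 * 2 ≤ p ^ b * (1 + q) := Nat.mul_le_mul hb0 (by omega)
      omega
    have h7 := Nat.le_of_dvd h6 h4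
    have h8 : p ^ b * (1 + q) ≤ q * (1 + q) := Nat.mul_le_mul_right _ (by omega)
    have h9 : q * (1 + q) = q + q ^ 2 := by ring
    omega

end

/-- a character of a cyclic group is a power of a faithful character -/
theorem exists_exp {C k : Type*} [CommGroup C] [IsCyclic C] [Finite C] [Field k] (f j' : C →* k)
    (hj : Function.Injective j') : ∃ m, 1 ≤ m ∧ m ≤ Nat.card C ∧ ∀ s, f s = j' s ^ m := by
  obtain ⟨g, hg⟩ := IsCyclic.exists_generator (α := C)
  have hN : orderOf g = Nat.card C := orderOf_eq_card_of_forall_mem_zpowers hg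
  have hpos : 0 < Nat.card C := Nat.card_pos
  have hprim : IsPrimitiveRoot (j' g) (orderOf g) := (IsPrimitiveRoot.orderOf g).map_of_injective hj
  have h1 : f g ^ orderOf g = 1 := by rw [← map_pow, pow_orderOf_eq_one, map_one]
  have : NeZero (orderOf g) := ⟨by rw [hN]; exact hpos.ne'⟩
  obtain ⟨i, hi, e⟩ := hprim.eq_pow_of_pow_eq_one h1
  have key : ∀ m : ℕ, j' g ^ m = f g → ∀ s, f s = j' s ^ m := by
    intro m hm s
    obtain ⟨x, hx⟩ := (mem_powers_iff_mem_zpowers).2 (hg s)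
    have hx' : g ^ x = s := hx
    rw [← hx', map_pow, map_pow, ← hm, ← pow_mul, ← pow_mul, mul_comm]
  rcases Nat.eq_zero_or_pos i with hi0 | hi0
  · refine ⟨Nat.card C, hpos, le_rfl, key _ ?_⟩
    rw [← e, hi0, pow_zero, ← hN, hprim.pow_eq_one]
  · exact ⟨i, hi0, by omega, key i e⟩

end Cfsg.Agent.H392.TD
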