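import Cfsg.Agent.H392.TD.Arith
import Cfsg.Agent.H905.MdG

/-!
# `³D₄(q)` in its own characteristic: the modules of dimension at most 12 (helper392)
-/

set_option autoImplicit false
set_option linter.unusedSectionVars false
set_option linter.style.haveILetI false

namespace Cfsg.Agent.H392.TD

open CoxeterSystem Cfsg.Agent.ChevalleyStructure.CoxeterGeom Cfsg.Agent.Tits.Roots Cfsg.Agent.Tits.Core
  Cfsg.Agent.Tits.Exchange Cfsg.Agent.Nodes.Reps Cfsg.Agent.Nodes.BNOf Cfsg.Agent.Nodes.StabComb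
  Cfsg.Agent.Nodes.Bruhat Cfsg.Agent.Nodes.OppDec Cfsg.Agent.Nodes.LeviDec Cfsg.Agent.KFacts.RgdOpp
  Cfsg.Agent.Omega.CR Cfsg.Agent.Omega.FOne.Lift.Sd Cfsg.Agent.H905.Md Cfsg.Agent.H875.Fn
open Cfsg.Lie Cfsg.Agent.ChevalleyStructure
open Cfsg.Agent.H911.SLTwo (U Lo hh ww)

section elts

variable {K : Type*} [Field K] {q : ℕ} {φ : K →+* K} (hφ : ∀ x, φ x = x ^ q)
  (hle : twistedD4 K q ≤ D4Fixed.fix φ)

include hφ in
theorem xG14_mem {t : K} (ht : φ t = t) : D4Comm.xG 14 t ∈ twistedD4 K q := by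
  rw [← D4U.xU_eq]
  exact D4Fixed.x14_mem (by rw [← hφ, ht])

include hφ in
theorem xG9_mem {t : K} (ht : φ t = t) : D4Comm.xG 9 t ∈ twistedD4 K q := by
  rw [← D4U.xU_eq]
  exact D4Fixed.x9_mem (by rw [← hφ, ht])

/-- the root elements of the long node -/
noncomputable def xa (t : K) (ht : φ t = t) : ↥(twistedD4 K q) := ⟨D4Comm.xG 14 t, xG14_mem hφ ht⟩
noncomputable def ya (t : K) (ht : φ t = t) : ↥(twistedD4 K q) := ⟨D4Comm.xG 9 t, xG9_mem hφ ht⟩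

include hle in
theorem xa_mem (t : K) (ht : φ t = t) : xa hφ t ht ∈ Nodes.RGDTwD4.X φ q (sr 0) := by
  refine Subgroup.mem_subgroupOf.2 ?_
  rw [Nodes.RGDTwD4.R0]
  exact ⟨TwistedU.mem_rspan D4Comm.xG (S := {k | k ∈ [14]}) (by simp) _, hle (xG14_mem hφ ht)⟩

include hle in
theorem ya_mem (t : K) (ht : φ t = t) : ya hφ t ht ∈ Nodes.RGDTwD4.X φ q (-sr 0) := by
  refine Subgroup.mem_subgroupOf.2 ?_
  rw [Nodes.RGDTwD4.R0']
  exact ⟨TwistedU.mem_rspan D4Comm.xG (S := {k | k ∈ [9]}) (by simp) _, hle (xG9_mem hφ ht)⟩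

include hle in
theorem hA_mem_sup (r : Kˣ) (hr : fu φ r = r) :
    hA hφ r hr ∈ Nodes.RGDTwD4.X φ q (sr 0) ⊔ Nodes.RGDTwD4.X φ q (-sr 0) := by
  have h1 : φ (r : K) = r := congrArg Units.val hr
  have h2 : φ (-(r : K)⁻¹) = -(r : K)⁻¹ := by rw [map_neg, map_inv₀, h1]
  have h3 : φ (-(1 : K)⁻¹) = -(1 : K)⁻¹ := by rw [map_neg, map_inv₀, map_one]
  have e : hA hφ r hr = (xa hφ r h1 * (ya hφ _ h2 * xa hφ r h1)) * (xa hφ 1 (map_one _) * (ya hφ _ h3 * xa hφ 1 (map_one _)))⁻¹ := by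
    apply Subtype.ext
    exact D4NConj.hR_eq 14 (r : K)
  rw [e]
  have k1 : ∀ t ht, xa hφ t ht ∈ Nodes.RGDTwD4.X φ q (sr 0) ⊔ Nodes.RGDTwD4.X φ q (-sr 0) := fun t ht =>
    Subgroup.mem_sup_left (xa_mem hφ hle t ht)
  have k2 : ∀ t ht, ya hφ t ht ∈ Nodes.RGDTwD4.X φ q (sr 0) ⊔ Nodes.RGDTwD4.X φ q (-sr 0) := fun t ht =>
    Subgroup.mem_sup_right (ya_mem hφ hle t ht)
  exact mul_mem (mul_mem (k1 _ _) (mul_mem (k2 _ _) (k1 _ _))) (inv_mem (mul_mem (k1 _ _) (mul_mem (k2 _ _) (k1 _ _))))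

include hle in
theorem th_mem_sup (g : Matrix.SpecialLinearGroup (Fin 2) K) :
    th hφ g ∈ Nodes.RGDTwD4.X φ q (sr 1) ⊔ Nodes.RGDTwD4.X φ q (-sr 1) := by
  obtain ⟨x, y, z, w, rfl⟩ := Lib.SL2Mat.exists_up_lo g
  have k1 : ∀ t, th hφ (Lib.SL2Mat.up t) ∈ Nodes.RGDTwD4.X φ q (sr 1) ⊔ Nodes.RGDTwD4.X φ q (-sr 1) := fun t => by
    rw [← U_eq]
    exact Subgroup.mem_sup_left (th_U hφ hle t)
  have k2 : ∀ t, th hφ (Lib.SL2Mat.lo t) ∈ Nodes.RGDTwD4.X φ q (sr 1) ⊔ Nodes.RGDTwD4.X φ q (-sr 1) := fun t => by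
    rw [← Lo_eq]
    exact Subgroup.mem_sup_right (th_Lo hφ hle t)
  rw [map_mul, map_mul, map_mul]
  exact mul_mem (mul_mem (mul_mem (k1 _) (k2 _)) (k1 _)) (k2 _)

theorem hB_mem_sup (hle : twistedD4 K q ≤ D4Fixed.fix φ) (s : Kˣ) :
    hB hφ s ∈ Nodes.RGDTwD4.X φ q (sr 1) ⊔ Nodes.RGDTwD4.X φ q (-sr 1) := by
  rw [← th_hh]
  exact th_mem_sup hφ hle _

theorem T_comm :
    ∀ s ∈ Nodes.RGDTwD4.T K q, ∀ t ∈ Nodes.RGDTwD4.T K q, s * t = t * s := by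
  intro s hs t ht
  obtain ⟨a, ha⟩ := D4Torus.diagonal_le (Subgroup.mem_subgroupOf.1 hs).1
  obtain ⟨b, hb⟩ := D4Torus.diagonal_le (Subgroup.mem_subgroupOf.1 ht).1
  apply Subtype.ext
  rw [Subgroup.coe_mul, Subgroup.coe_mul]
  change _ = _
  rw [← ha, ← hb, ← map_mul, ← map_mul, mul_comm]

end elts

/-! ### the cases -/

section cases

variable {K : Type*} [Field K] [Fintype K] {q : ℕ} {φ : K →+* K} (hφ : ∀ x, φ x = x ^ q)
  (hK : Fintype.card K = q ^ 3)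
  {k V : Type*} [Field k] (j : K →+* k) [AddCommGroup V] [Module k V] [FiniteDimensional k V] [Nontrivial V]
  {p : ℕ} [Fact p.Prime] [CharP K p] [CharP k p] {ρ : ↥(twistedD4 K q) →* Module.End k V}
  (hirr : ∀ L : Submodule k V, Ivt ρ (GG cs Nodes.RGDTwD4.isCartan (Nodes.RGDTwD4.T K q) (Nodes.RGDTwD4.X φ q)) L →
    L = ⊥ ∨ L = ⊤)

/-- the nodes fixing the vectors of `V^U` -/
abbrev JD (φ : K →+* K) (q : ℕ) (ρ : ↥(twistedD4 K q) →* Module.End k V) : Set (Fin 2) :=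
  Jx cs Nodes.RGDTwD4.isCartan (Nodes.RGDTwD4.X φ q) ρ

include hK in
theorem hA_fix (hp : p.Prime) (h0 : 0 ∈ JD φ q ρ) {c : V} (hc : c ∈ D cs Nodes.RGDTwD4.isCartan (Nodes.RGDTwD4.X φ q) ρ)
    (r : Kˣ) (hr : fu φ r = r) : ρ (hA hφ r hr) c = c := by
  have hle := D4Fixed.twisted_le_fix hK hφ
  have R := Nodes.RGDTwD4.rgd (K := K) cs hK hφ p
  have h1 : c ∈ fx ρ (Nodes.RGDTwD4.X φ q (sr 0) ⊔ Nodes.RGDTwD4.X φ q (-sr 0)) := by
    rw [fx_sup]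
    exact ⟨fun b hb => X_fix R ρ hc 0 hb, fun b hb => h0 b hb c hc⟩
  exact h1 _ (hA_mem_sup hφ hle r hr)

include hK in
theorem hB_fix (hp : p.Prime) (h0 : 1 ∈ JD φ q ρ) {c : V} (hc : c ∈ D cs Nodes.RGDTwD4.isCartan (Nodes.RGDTwD4.X φ q) ρ)
    (s : Kˣ) : ρ (hB hφ s) c = c := by
  have hle := D4Fixed.twisted_le_fix hK hφ
  have R := Nodes.RGDTwD4.rgd (K := K) cs hK hφ p
  have h1 : c ∈ fx ρ (Nodes.RGDTwD4.X φ q (sr 1) ⊔ Nodes.RGDTwD4.X φ q (-sr 1)) := by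
    rw [fx_sup]
    exact ⟨fun b hb => X_fix R ρ hc 1 hb, fun b hb => h0 b hb c hc⟩
  exact h1 _ (hB_mem_sup hφ hle s)

include hK in
theorem exists_f : ∃ f, 0 < f ∧ q = p ^ f := by
  have hp : p.Prime := Fact.out
  obtain ⟨n, -, hn⟩ := FiniteField.card K p
  rw [hK] at hn
  obtain ⟨f, -, hf⟩ := (Nat.dvd_prime_pow hp).1 (show q ∣ p ^ (n : ℕ) from hn ▸ dvd_pow_self q (by norm_num))
  refine ⟨f, ?_, hf⟩
  rcases Nat.eq_zero_or_pos f with h0 | h0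
  · exfalso
    rw [h0, pow_zero] at hf
    rw [hf, one_pow] at hK
    have := Fintype.one_lt_card (α := K)
    omega
  · exact h0

variable {c : V} (hc : c ∈ D cs Nodes.RGDTwD4.isCartan (Nodes.RGDTwD4.X φ q) ρ) (hc0 : c ≠ 0)
  {m l : ℕ} (hBc : ∀ s : Kˣ, ρ (hB hφ s) c = (j (s : K) ^ m) • c)
  (hAc : ∀ (r : Kˣ) (hr : fu φ r = r), ρ (hA hφ r hr) c = (j (r : K) ^ l) • c)

include hK hirr hc hc0 hBc hAc

theorem cnt_even (h1 : 1 ∉ JD φ q ρ) : 2 * (SS p (red (q ^ 3 - 1) m)).card +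
    (SS p (red (q ^ 3 - 1) (m * (q + q ^ 2) + l * (1 + q + q ^ 2)))).card +
    (SS p (red (q ^ 3 - 1) (m + l * (1 + q + q ^ 2)))).card ≤ Module.finrank k V + (SS p (red (q ^ 3 - 1) m)).card := by
  have := cnt hφ hK j hirr hc hc0 hBc hAc (α := Fin 3) (fun a => 2 * a.castLE (by norm_num))
    (fun a b hab => notMem_of_tst h1 (test3 a b hab)) (fun a b => notMem_of_tst h1 (test4 a b))
  rw [Fin.sum_univ_three] at this
  change (SS p (red (q ^ 3 - 1) m)).card + (SS p (red (q ^ 3 - 1) (m * (q + q ^ 2) + l * (1 + q + q ^ 2)))).card +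
    (SS p (red (q ^ 3 - 1) (m + l * (1 + q + q ^ 2)))).card ≤ _ at this
  omega

theorem cnt_odd (h1 : 0 ∉ JD φ q ρ) : (SS p (red (q ^ 3 - 1) (m + l * (1 + q + q ^ 2)))).card +
    (SS p (red (q ^ 3 - 1) (m * (q + q ^ 2) + l * (1 + q + q ^ 2)))).card ≤ Module.finrank k V := by
  have := cnt hφ hK j hirr hc hc0 hBc hAc (α := Fin 2) (fun a => 2 * a.castLE (by norm_num) + 1)
    (fun a b hab => notMem_of_tst h1 (test5 a b hab)) (fun a b => notMem_of_tst h1 (test6 a b))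
  rw [Fin.sum_univ_two] at this
  exact this

theorem cnt_all (h0 : 0 ∉ JD φ q ρ) (h1 : 1 ∉ JD φ q ρ) : 2 * (SS p (red (q ^ 3 - 1) m)).card +
    2 * (SS p (red (q ^ 3 - 1) (m * (q + q ^ 2) + l * (1 + q + q ^ 2)))).card +
    2 * (SS p (red (q ^ 3 - 1) (m + l * (1 + q + q ^ 2)))).card ≤ Module.finrank k V := by
  have := cnt hφ hK j hirr hc hc0 hBc hAc (α := Fin 6) id
    (fun a b hab => (test1 a b hab).elim (notMem_of_tst h0) (notMem_of_tst h1))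
    (fun a b => (test2 a b).elim (notMem_of_tst h0) (notMem_of_tst h1))
  rw [Fin.sum_univ_six] at this
  change (SS p (red (q ^ 3 - 1) m)).card + (SS p (red (q ^ 3 - 1) (m + l * (1 + q + q ^ 2)))).card +
    (SS p (red (q ^ 3 - 1) (m * (q + q ^ 2) + l * (1 + q + q ^ 2)))).card +
    (SS p (red (q ^ 3 - 1) (m * (q + q ^ 2) + l * (1 + q + q ^ 2)))).card +
    (SS p (red (q ^ 3 - 1) (m + l * (1 + q + q ^ 2)))).card + (SS p (red (q ^ 3 - 1) m)).card ≤ _ at this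
  omega

/-- the case `J = ∅` -/
theorem case_empty (hp : p.Prime) (hm : 1 ≤ m) (hmN : m ≤ q ^ 3 - 1) (h12 : Module.finrank k V ≤ 12) (h0 : 0 ∉ JD φ q ρ)
    (h1 : 1 ∉ JD φ q ρ) : False := by
  obtain ⟨f, hf, hqf⟩ := exists_f (p := p) hK
  have hN : 0 < q ^ 3 - 1 := by omega
  have key := cnt_all hφ hK j hirr hc hc0 hBc hAc h0 h1
  have e0 : red (q ^ 3 - 1) m = m := red_eq rfl (by omega) hmN
  have k1 := two_le_card_SS (p := p) (red_ne hN m)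
  have k2 := two_le_card_SS (p := p) (red_ne hN (m + l * (1 + q + q ^ 2)))
  have k3 := two_le_card_SS (p := p) (red_ne hN (m * (q + q ^ 2) + l * (1 + q + q ^ 2)))
  have z1 : (SS p (red (q ^ 3 - 1) m)).card = 2 := by omega
  have z3 : (SS p (red (q ^ 3 - 1) (m * (q + q ^ 2) + l * (1 + q + q ^ 2)))).card = 2 := by omega
  obtain ⟨i, c₁, -, -, e1, e1'⟩ := eq_of_prime (p := p) (red_ne hN m) (by rw [z1]; exact Nat.prime_two)
  obtain ⟨i', c₃, -, -, e3, e3'⟩ := eq_of_prime (p := p) (red_ne hN (m * (q + q ^ 2) + l * (1 + q + q ^ 2)))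
    (by rw [z3]; exact Nat.prime_two)
  have hc1 : c₁ = 1 := by omega
  have hc3 : c₃ = 1 := by omega
  rw [hc1, mul_one] at e1
  rw [hc3, mul_one] at e3
  have hlt : ∀ i, p ^ i ≤ q ^ 3 - 1 → i < f * 3 := by
    intro i hi
    rw [hqf, ← pow_mul] at hi
    have h2 : p ^ i < p ^ (f * 3) := by
      have := pow_pos hp.pos (f * 3)
      omega
    exact (Nat.pow_lt_pow_iff_right hp.one_lt).1 h2
  have hi := hlt i (e1 ▸ red_le hN _)
  have hi' := hlt i' (e3 ▸ red_le hN _)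
  rw [e0] at e1
  have hQ : (1 + q + q ^ 2) ∣ q ^ 3 - 1 := by
    refine Dvd.intro_left (q - 1) ?_
    have hq1 : 1 ≤ q := by
      rcases Nat.eq_zero_or_pos q with h | h
      · rw [h] at hN; simp at hN
      · exact h
    zify [hq1, Nat.one_le_pow 3 q hq1]
    ring
  have h3 : p ^ i' ≡ m * (q + q ^ 2) + l * (1 + q + q ^ 2) [MOD (1 + q + q ^ 2)] := by
    rw [← e3]
    exact Nat.ModEq.of_dvd hQ (red_mod _ _)
  have h4 : (1 + q + q ^ 2) ∣ p ^ i + p ^ i' := by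
    have h5 : p ^ i + p ^ i' ≡ p ^ i + (m * (q + q ^ 2) + l * (1 + q + q ^ 2)) [MOD (1 + q + q ^ 2)] :=
      (Nat.ModEq.refl _).add h3
    rw [(h5.dvd_iff dvd_rfl)]
    refine Dvd.intro_left (m + l) ?_
    rw [← e1]
    ring
  rw [hqf] at h4
  exact not_dvd_Q hf hi hi' h4

/-- the case `J = {1}` -/
theorem case_one (hp : p.Prime) (hl : 1 ≤ l) (hlq : l ≤ q - 1) (h12 : Module.finrank k V ≤ 12) (h0 : 0 ∉ JD φ q ρ)
    (hm : m = 0) : False := by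
  obtain ⟨f, hf, hqf⟩ := exists_f (p := p) hK
  have key := cnt_odd hφ hK j hirr hc hc0 hBc hAc h0
  rw [hm, zero_mul, zero_add] at key
  have hq1 : 1 ≤ q := by omega
  have e : red (q ^ 3 - 1) (l * (1 + q + q ^ 2)) = l * (1 + q + q ^ 2) := by
    apply red_eq rfl
    · positivity
    · have : q ^ 3 - 1 = (q - 1) * (1 + q + q ^ 2) := by
        zify [hq1, Nat.one_le_pow 3 q hq1]
        ring
      rw [this]
      exact Nat.mul_le_mul_right _ hlq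
  have e2 : (SS p (l * (1 + q + q ^ 2))).card = (SS p l).card ^ 3 := by
    rw [← card_SS_geom (a := f) (r₀ := l) (by rw [← hqf]; omega) 3, ← hqf, Finset.sum_range_succ,
      Finset.sum_range_succ, Finset.sum_range_one, pow_zero, pow_one]
  rw [e, e2] at key
  have h2 := two_le_card_SS (p := p) (r := l) (by omega)
  have h3 : 2 ^ 3 ≤ (SS p l).card ^ 3 := Nat.pow_le_pow_left h2 3
  omega

end cases

end Cfsg.Agent.H392.TD
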