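import Cfsg.Agent.H392.TD.Zero

/-!
# `³D₄(q)` in its own characteristic: the character of the torus (helper392)

`classify` : `ρ` simple over an algebraically closed field of characteristic `p`, `2 ≤ dim ≤ 12`; then `J = {0}`,
`dim ≥ 8`, and the torus acts on `V^U` by `hB s ↦ σ s`, `hA r ↦ 1` for an embedding `σ` of the field of `q³` elements.
-/

set_option autoImplicit false
set_option linter.unusedSectionVars false
set_option linter.style.haveILetI false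

namespace Cfsg.Agent.H392.TD

open CoxeterSystem Cfsg.Agent.ChevalleyStructure.CoxeterGeom Cfsg.Agent.Tits.Roots Cfsg.Agent.Tits.Core
  Cfsg.Agent.Tits.Exchange Cfsg.Agent.Nodes.Reps Cfsg.Agent.Nodes.BNOf Cfsg.Agent.Nodes.StabComb
  Cfsg.Agent.Nodes.Bruhat Cfsg.Agent.Nodes.OppDec Cfsg.Agent.Nodes.LeviDec Cfsg.Agent.KFacts.RgdOpp
  Cfsg.Agent.Omega.CR Cfsg.Agent.Omega.FOne.Lift.Sd Cfsg.Agent.H905.Md Cfsg.Agent.H875.Fn
open Cfsg.Lie Cfsg.Agent.ChevalleyStructure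

variable {K : Type*} [Field K] [Fintype K] {q : ℕ} {φ : K →+* K} (hφ : ∀ x, φ x = x ^ q)
  (hK : Fintype.card K = q ^ 3)
  {k V : Type*} [Field k] (j : K →+* k) [AddCommGroup V] [Module k V] [FiniteDimensional k V] [Nontrivial V]
  {p : ℕ} [Fact p.Prime] [CharP K p] [CharP k p] {ρ : ↥(twistedD4 K q) →* Module.End k V}
  (hirr : ∀ L : Submodule k V, Ivt ρ (GG cs Nodes.RGDTwD4.isCartan (Nodes.RGDTwD4.T K q) (Nodes.RGDTwD4.X φ q)) L →
    L = ⊥ ∨ L = ⊤)

include hφ hK hirr in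
/-- `J ≠ {0, 1}` -/
theorem not_both (hp : p.Prime)
    (hD : Module.finrank k (D cs Nodes.RGDTwD4.isCartan (Nodes.RGDTwD4.X φ q) ρ) = 1) (h2 : 2 ≤ Module.finrank k V) (h0 : 0 ∈ JD φ q ρ)
    (h1 : 1 ∈ JD φ q ρ) : False := by
  have hW : Finite CoxeterMatrix.G₂.Group := finiteG
  have hY : Finite ↥(twistedD4 K q) := inferInstance
  have R := Nodes.RGDTwD4.rgd (K := K) cs hK hφ p
  have hJ : ∀ i : Fin 2, i ∈ JD φ q ρ := by
    intro i
    fin_cases i
    · exact h0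
    · exact h1
  have hinv : Ivt ρ (GG cs Nodes.RGDTwD4.isCartan (Nodes.RGDTwD4.T K q) (Nodes.RGDTwD4.X φ q))
      (D cs Nodes.RGDTwD4.isCartan (Nodes.RGDTwD4.X φ q) ρ) := by
    have h3 := LJ_D R hirr
    refine Ivt.mono ?_ h3
    unfold GG
    refine sup_le T_le_LJ (RGD.Sup_le fun x hx => ?_)
    exact X_le_LJ ⟨hx, fun i hi => absurd (hJ i) hi⟩
  rcases hirr _ hinv with h | h
  · rw [h, finrank_bot] at hD
    omega
  · rw [h, finrank_top] at hD
    omega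

section chi

variable {c : V} (hc : c ∈ D cs Nodes.RGDTwD4.isCartan (Nodes.RGDTwD4.X φ q) ρ) (hc0 : c ≠ 0) {χ : ↥(twistedD4 K q) → k}
  (hχ : ∀ t ∈ Nodes.RGDTwD4.T K q, ρ t c = χ t • c)

include hc0 hχ in
theorem chi_mul {s t : ↥(twistedD4 K q)} (hs : s ∈ Nodes.RGDTwD4.T K q) (ht : t ∈ Nodes.RGDTwD4.T K q) :
    χ (s * t) = χ s * χ t := by
  have h1 := hχ _ (mul_mem hs ht)
  rw [rho_mul, hχ t ht, map_smul, hχ s hs, smul_smul, mul_comm] at h1
  exact (smul_left_injective k hc0 h1).symm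

include hc0 hχ in
theorem chi_one : χ 1 = 1 := by
  have h1 := hχ 1 (one_mem _)
  rw [map_one, Module.End.one_apply] at h1
  have h2 : (1 : k) • c = χ 1 • c := by rw [one_smul]; exact h1
  exact (smul_left_injective k hc0 h2).symm

/-- the fixed units -/
def FU (φ : K →+* K) : Subgroup Kˣ := MonoidHom.eqLocus (fu φ) (MonoidHom.id Kˣ)

include hK hc0 hχ in
/-- the powers for the short node -/
theorem exists_m (hφ : ∀ x, φ x = x ^ q) : ∃ m, 1 ≤ m ∧ m ≤ q ^ 3 - 1 ∧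
    ∀ s : Kˣ, χ (hB hφ s) = j (s : K) ^ m := by
  have hone : hB hφ 1 = 1 := by
    have := hB_mul hφ 1 1
    rw [one_mul] at this
    exact mul_eq_left.1 this
  let f : Kˣ →* k := 
    { toFun := fun s => χ (hB hφ s)
      map_one' := by rw [hone, chi_one hc0 hχ]
      map_mul' := fun a b => by rw [← hB_mul, chi_mul hc0 hχ (hB_mem hφ a) (hB_mem hφ b)] }
  let j' : Kˣ →* k := (j : K →* k).comp (Units.coeHom K)
  have hj : Function.Injective j' := fun a b hab => Units.ext (j.injective hab)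
  obtain ⟨m, h1, h2, h3⟩ := exists_exp f j' hj
  refine ⟨m, h1, ?_, h3⟩
  rwa [D4H1.natCard_units hK] at h2

include hK hc0 hχ in
theorem exists_l (hφ : ∀ x, φ x = x ^ q) : ∃ l, 1 ≤ l ∧ l ≤ q - 1 ∧
    ∀ (r : Kˣ) (hr : fu φ r = r), χ (hA hφ r hr) = j (r : K) ^ l := by
  have hq1 : 1 < q := by
    rcases Nat.lt_or_ge 1 q with h | h
    · exact h
    · exfalso
      have h2 := Fintype.one_lt_card (α := K)
      have h3 : q ^ 3 ≤ 1 ^ 3 := Nat.pow_le_pow_left h 3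
      rw [one_pow] at h3
      omega
  let f : FU φ →* k := 
    { toFun := fun s => χ (hA hφ s.1 s.2)
      map_one' := by
        rw [← chi_one hc0 hχ]
        exact congrArg χ (hA_one hφ)
      map_mul' := fun a b => by
        rw [← chi_mul hc0 hχ (hA_mem hφ a.1 a.2) (hA_mem hφ b.1 b.2)]
        exact congrArg χ (hA_mul hφ a.1 b.1 a.2 b.2).symm }
  let j' : FU φ →* k := ((j : K →* k).comp (Units.coeHom K)).comp (FU φ).subtype
  have hj : Function.Injective j' := fun a b hab => Subtype.ext (Units.ext (j.injective hab))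
  obtain ⟨m, h1, h2, h3⟩ := exists_exp f j' hj
  refine ⟨m, h1, ?_, fun r hr => h3 ⟨r, hr⟩⟩
  have h4 : Nat.card (FU φ) = q - 1 := by
    rw [← D4H1.card_fixed hq1 hK hφ]
    exact Nat.card_congr (Equiv.subtypeEquivRight fun b => by
      change fu φ b = b ↔ _
      exact Units.ext_iff)
  omega

end chi

include hK hirr in
/-- **The classification.** -/
theorem classify (hp : p.Prime) (h2 : 2 ≤ Module.finrank k V) (h12 : Module.finrank k V ≤ 12) {c : V}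
    (hc : c ∈ D cs Nodes.RGDTwD4.isCartan (Nodes.RGDTwD4.X φ q) ρ) (hc0 : c ≠ 0) {χ : ↥(twistedD4 K q) → k}
    (hχ : ∀ t ∈ Nodes.RGDTwD4.T K q, ρ t c = χ t • c) :
    0 ∈ JD φ q ρ ∧ 1 ∉ JD φ q ρ ∧ 8 ≤ Module.finrank k V ∧
      ∃ t : ℕ, (∀ s : Kˣ, χ (hB hφ s) = j (s : K) ^ p ^ t) ∧
        ∀ (r : Kˣ) (hr : fu φ r = r), χ (hA hφ r hr) = 1 := by
  have hW : Finite CoxeterMatrix.G₂.Group := finiteG
  have hY : Finite ↥(twistedD4 K q) := inferInstance
  have R := Nodes.RGDTwD4.rgd (K := K) cs hK hφ p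
  have hD : Module.finrank k (D cs Nodes.RGDTwD4.isCartan (Nodes.RGDTwD4.X φ q) ρ) = 1 := by
    have h1 := H911.fx_eq_span R ρ hirr hc hc0 hχ
    rw [show D cs Nodes.RGDTwD4.isCartan (Nodes.RGDTwD4.X φ q) ρ =
      fx ρ (RGD.Sup (Nodes.RGDTwD4.X φ q) (RGD.Pos cs Nodes.RGDTwD4.isCartan)) from rfl, h1]
    exact finrank_span_singleton hc0
  obtain ⟨m, hm1, hm2, hm⟩ := exists_m hK j hc0 hχ hφ
  obtain ⟨l, hl1, hl2, hl⟩ := exists_l hK j hc0 hχ hφ
  have hBc : ∀ s : Kˣ, ρ (hB hφ s) c = (j (s : K) ^ m) • c := fun s => by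
    rw [hχ _ (hB_mem hφ s), hm]
  have hAc : ∀ (r : Kˣ) (hr : fu φ r = r), ρ (hA hφ r hr) c = (j (r : K) ^ l) • c := fun r hr => by
    rw [hχ _ (hA_mem hφ r hr), hl]
  by_cases h0 : 0 ∈ JD φ q ρ
  · by_cases h1 : 1 ∈ JD φ q ρ
    · exact (not_both hφ hK hirr hp hD h2 h0 h1).elim
    · obtain ⟨⟨t, ht⟩, h8⟩ := case_zero hφ hK j hirr hc hc0 hBc hp hD h0 h1 hm1 hm2 h12
      refine ⟨h0, h1, h8, t, fun s => by rw [hm, ht], fun r hr => ?_⟩
      have h3 := hA_fix hφ hK hp h0 hc r hr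
      rw [hχ _ (hA_mem hφ r hr)] at h3
      have h4 : χ (hA hφ r hr) • c = (1 : k) • c := by rw [h3, one_smul]
      exact smul_left_injective k hc0 h4
  · exfalso
    by_cases h1 : 1 ∈ JD φ q ρ
    · refine case_one hφ hK j hirr hc hc0 (m := 0) (l := l) (fun s => ?_) hAc hp hl1 hl2 h12 h0 rfl
      rw [hB_fix hφ hK hp h1 hc, pow_zero, one_smul]
    · exact case_empty hφ hK j hirr hc hc0 hBc hAc hp hm1 hm2 h12 h0 h1

end Cfsg.Agent.H392.TD
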