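import Cfsg.Agent.H905.MdC
import Cfsg.Agent.H875.FnIso
import Cfsg.Agent.H875.SSet

/-!
# The dimension of a simple module in the defining characteristic from the weights at one root (helper392)

`R : RGD cs h p T n X`, `ρ` simple in characteristic `p`, `c` a vector of `V^U`, `θ : SL_2(E) → Y` parametrises the root
groups `X_i`, `X_{-i}`.

* `sum_le` : vectors `v a` and functionals `φ a`;
* **`count`** : `w a`, `a : α`, elements of `W` with `w⁻¹ α_i > 0`, different modulo `W_J` and the reflection `s_i`; if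
  `θ (hh s)` has the eigenvalue `j s ^ r a` on `w a c` (`1 ≤ r a ≤ |E| - 1`), then `∑ |SS p (r a)| ≤ dim V`.
-/

set_option autoImplicit false
set_option linter.unusedSectionVars false
set_option linter.style.haveILetI false

namespace Cfsg.Agent.H392.TD

open Matrix Cfsg.Agent.H875.Fn
open Cfsg.Agent.H911.SLTwo (U Lo hh ww ext' m00 m01 m10 m11 U00 U01 U10 U11 hh00 hh01 hh10 hh11 ww00 ww01 ww10 ww11)
open scoped MatrixGroups

section emb

universe u v w

variable {E : Type u} [Field E] [Fintype E] {k : Type v} [Field k] (j : E →+* k) {V : Type w} [AddCommGroup V]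
  [Module k V] [FiniteDimensional k V] (Q : SpecialLinearGroup (Fin 2) E →* Module.End k V)

theorem row_hh_U (x : E × E) (hx : x.1 ≠ 0) :
    row (hh (Units.mk0 x.1 hx) * U (x.2 / x.1) : SpecialLinearGroup (Fin 2) E) = x := by
  rw [row_mul, vm_U]
  have h1 : row (hh (Units.mk0 x.1 hx) : SpecialLinearGroup (Fin 2) E) = (x.1, 0) := by
    unfold H875.Fn.row
    rw [hh00, hh01]
    rfl
  rw [h1]
  ext
  · rfl
  · show x.1 * (x.2 / x.1) + 0 = x.2
    rw [add_zero, mul_div_cancel₀ _ hx]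

theorem row_ww_hh (x : E × E) (hx : x.1 = 0) (hx' : x.2 ≠ 0) :
    row (ww * hh (Units.mk0 x.2 hx')⁻¹ : SpecialLinearGroup (Fin 2) E) = x := by
  rw [row_mul]
  have h1 : row (ww : SpecialLinearGroup (Fin 2) E) = (0, 1) := by
    unfold H875.Fn.row
    rw [ww00, ww01]
  rw [h1]
  unfold vm
  rw [hh00, hh01, hh10, hh11]
  ext
  · simp [hx]
  · simp

theorem exists_col (c : E × E) (hc : c ≠ 0) : ∃ g : SpecialLinearGroup (Fin 2) E, mv g (1, 0) = c := by
  have key : ∀ g : SpecialLinearGroup (Fin 2) E, mv g (1, 0) = (g.1 0 0, g.1 1 0) := by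
    intro g
    unfold mv
    simp
  by_cases h1 : c.1 = 0
  · have h2 : c.2 ≠ 0 := fun h2 => hc (Prod.ext h1 h2)
    refine ⟨⟨!![c.1, -c.2⁻¹; c.2, 0], ?_⟩, ?_⟩
    · rw [Matrix.det_fin_two_of]
      field_simp
      ring
    · exact key _
  · refine ⟨⟨!![c.1, 0; c.2, c.1⁻¹], ?_⟩, ?_⟩
    · rw [Matrix.det_fin_two_of]
      field_simp
      ring
    · exact key _

variable {j Q}

/-- the image of a highest weight vector -/
theorem emb_hw {φ : Module.Dual k V} (hLo : ∀ t x, φ (Q (Lo t) x) = φ x) {v : V} {r : ℕ} (hr : r ≠ 0)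
    (hU : ∀ t, Q (U t) v = v) (hh' : ∀ s : Eˣ, Q (hh s) v = (j (s : E) ^ r) • v) (h0 : φ (Q ww v) = 0) :
    emb Q φ v = φ v • mono j r 0 := by
  funext x
  rw [Pi.smul_apply, smul_eq_mul]
  have hm : mono j r 0 x = j x.1 ^ r := by
    have := mono_apply j r 0 x.1 x.2
    rw [pow_zero, mul_one] at this
    exact this
  rw [hm]
  by_cases hx : x.1 = 0
  · rw [hx, map_zero, zero_pow hr, mul_zero]
    by_cases hx' : x.2 = 0
    · have : x = 0 := Prod.ext hx hx'
      rw [this, emb_zero]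
    · rw [← row_ww_hh x hx hx', emb_row hLo, map_mul, Module.End.mul_apply, hh', map_smul, map_smul, h0, smul_zero]
  · rw [← row_hh_U x hx, emb_row hLo, map_mul, Module.End.mul_apply, hU, hh', map_smul, smul_eq_mul,
      row_hh_U, Units.val_mk0, mul_comm]

/-- the image of a vector killed by the functional -/
theorem emb_hw_zero {φ : Module.Dual k V} (hLo : ∀ t x, φ (Q (Lo t) x) = φ x) {v : V} {r : ℕ}
    (hU : ∀ t, Q (U t) v = v) (hh' : ∀ s : Eˣ, Q (hh s) v = (j (s : E) ^ r) • v) (h0 : φ (Q ww v) = 0)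
    (h1 : φ v = 0) : emb Q φ v = 0 := by
  funext x
  rw [Pi.zero_apply]
  by_cases hx : x.1 = 0
  · by_cases hx' : x.2 = 0
    · have : x = 0 := Prod.ext hx hx'
      rw [this, emb_zero]
    · rw [← row_ww_hh x hx hx', emb_row hLo, map_mul, Module.End.mul_apply, hh', map_smul, map_smul, h0, smul_zero]
  · rw [← row_hh_U x hx, emb_row hLo, map_mul, Module.End.mul_apply, hU, hh', map_smul, h1, smul_zero]

variable (p : ℕ) [hp : Fact p.Prime] [CharP k p]

/-- **The sum of the dimensions of the modules generated by independent highest weight vectors.** -/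
theorem sum_le {α : Type} [Fintype α] [DecidableEq α] (v : α → V) (φ : α → Module.Dual k V) (r : α → ℕ)
    (hr0 : ∀ a, r a ≠ 0) (hr : ∀ a, r a ≤ Fintype.card E - 1)
    (hLo : ∀ a t x, φ a (Q (Lo t) x) = φ a x) (hU : ∀ a t, Q (U t) (v a) = v a)
    (hh' : ∀ a (s : Eˣ), Q (hh s) (v a) = (j (s : E) ^ r a) • v a)
    (h1 : ∀ a, φ a (v a) ≠ 0) (h2 : ∀ a b, a ≠ b → φ a (v b) = 0) (h3 : ∀ a b, φ a (Q ww (v b)) = 0) :
    ∑ a, (SS p (r a)).card ≤ Module.finrank k V := by
  let Φ : V →ₗ[k] (α → (E × E → k)) := LinearMap.pi fun a => emb Q (φ a)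
  have hΦ : ∀ b, Φ (v b) = Pi.single b (φ b (v b) • pw j (r b) (1, 0)) := by
    intro b
    funext a
    change emb Q (φ a) (v b) = _
    by_cases hab : a = b
    · subst hab
      rw [Pi.single_eq_same, pw_one_zero]
      exact emb_hw (hLo a) (hr0 a) (hU a) (hh' a) (h3 a a)
    · rw [Pi.single_eq_of_ne hab]
      exact emb_hw_zero (hLo a) (hU b) (hh' b) (h3 a b) (h2 a b hab)
  have hΦg : ∀ b (g : SpecialLinearGroup (Fin 2) E), Φ (Q g (v b)) =
      Pi.single b (φ b (v b) • pw j (r b) (mv g (1, 0))) := by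
    intro b g
    funext a
    change emb Q (φ a) (Q g (v b)) = _
    rw [emb_act (hLo a)]
    have h4 : emb Q (φ a) (v b) = (Pi.single b (φ b (v b) • pw j (r b) (1, 0)) : α → (E × E → k)) a :=
      congrFun (hΦ b) a
    rw [h4]
    by_cases hab : a = b
    · subst hab
      rw [Pi.single_eq_same, Pi.single_eq_same, map_smul, act_pw]
    · rw [Pi.single_eq_of_ne hab, Pi.single_eq_of_ne hab, map_zero]
  have hsingle : ∀ b, ∀ f ∈ L j (r b), (Pi.single b f : α → (E × E → k)) ∈ LinearMap.range Φ := by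
    intro b f hf
    unfold L at hf
    have key : Submodule.span k (Set.range (pw j (r b))) ≤
        (LinearMap.range Φ).comap (LinearMap.single k (fun _ : α => (E × E → k)) b) := by
      rw [Submodule.span_le]
      rintro _ ⟨c, rfl⟩
      rw [SetLike.mem_coe, Submodule.mem_comap]
      change (Pi.single b (pw j (r b) c) : α → (E × E → k)) ∈ LinearMap.range Φ
      by_cases hc : c = 0
      · have h0 : pw j (r b) c = 0 := by
          funext x
          rw [hc]
          unfold pw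
          simp [hr0 b]
        rw [h0, Pi.single_zero]
        exact zero_mem _
      · obtain ⟨g, hg⟩ := exists_col c hc
        have h5 := hΦg b g
        rw [hg] at h5
        refine ⟨(φ b (v b))⁻¹ • Q g (v b), ?_⟩
        rw [map_smul, h5, ← Pi.single_smul, smul_smul, inv_mul_cancel₀ (h1 b), one_smul]
    exact key hf
  let Ψ : (∀ a, L j (r a)) →ₗ[k] (α → (E × E → k)) := LinearMap.pi fun a => (L j (r a)).subtype.comp (LinearMap.proj a)
  have hΨ : Function.Injective Ψ := by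
    intro f g hfg
    funext a
    exact Subtype.ext (congrFun hfg a)
  have hle : LinearMap.range Ψ ≤ LinearMap.range Φ := by
    rintro _ ⟨f, rfl⟩
    have h6 : Ψ f = ∑ a, (Pi.single a ((f a : E × E → k)) : α → (E × E → k)) := by
      funext a
      rw [Finset.sum_apply, Finset.sum_eq_single a]
      · rw [Pi.single_eq_same]; rfl
      · intro b _ hb
        rw [Pi.single_eq_of_ne (Ne.symm hb)]
      · intro h; exact absurd (Finset.mem_univ a) h
    rw [h6]
    exact Submodule.sum_mem _ fun a _ => hsingle a _ (f a).2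
  have e1 := LinearMap.finrank_range_of_inj hΨ
  have e2 := Submodule.finrank_mono hle
  have e3 := LinearMap.finrank_range_le Φ
  have hfin : ∀ a, FiniteDimensional k (L j (r a)) := fun a => by
    unfold L
    exact FiniteDimensional.span_of_finite k (Set.finite_range _)
  rw [Module.finrank_pi_fintype] at e1
  have e4 : ∑ a, Module.finrank k (L j (r a)) = ∑ a, (SS p (r a)).card :=
    Finset.sum_congr rfl fun a _ => finrank_L j p (hr a)
  omega

end emb

/-! ### root group data -/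

section rgd

open CoxeterSystem Cfsg.Agent.ChevalleyStructure.CoxeterGeom Cfsg.Agent.Tits.Roots Cfsg.Agent.Tits.Core
  Cfsg.Agent.Tits.Exchange Cfsg.Agent.Nodes.Reps Cfsg.Agent.Nodes.BNOf Cfsg.Agent.Nodes.StabComb
  Cfsg.Agent.Nodes.Bruhat Cfsg.Agent.Nodes.OppDec Cfsg.Agent.Nodes.LeviDec Cfsg.Agent.KFacts.RgdOpp
  Cfsg.Agent.Omega.CR Cfsg.Agent.Omega.FOne.Lift.Sd Cfsg.Agent.H905.Md

variable {I W Y : Type*} [Fintype I] [DecidableEq I] [Group W] [Group Y] {M : CoxeterMatrix I}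
  {cs : CoxeterSystem M W} {A : I → I → ℤ} {h : IsCartan M A} {p : ℕ} {T : Subgroup Y} {n : I → Y}
  {X : (I → ℤ) → Subgroup Y}

variable {E : Type*} [Field E] [Fintype E] {k V : Type*} [Field k] (j : E →+* k) [AddCommGroup V] [Module k V]

variable (R : RGD cs h p T n X) [Finite Y] [Finite W] [Fact p.Prime] [CharP k p]
  {ρ : Y →* Module.End k V} [FiniteDimensional k V] [Nontrivial V]
  (hirr : ∀ L : Submodule k V, Ivt ρ (GG cs h T X) L → L = ⊥ ∨ L = ⊤)
include R hirr

/-- **The dimension from the weights at a fundamental root.** -/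
theorem count {i : I} (θ : SpecialLinearGroup (Fin 2) E →* Y) (hU : ∀ t, θ (U t) ∈ X (sr i))
    (hLo : ∀ t, θ (Lo t) ∈ X (-sr i)) (hww : Rp cs R.nsys (cs.simple i) (θ ww)) {c : V} (hc : c ∈ D cs h X ρ)
    (hc0 : c ≠ 0) {α : Type} [Fintype α] [DecidableEq α] (w : α → W) (g : α → Y)
    (hg : ∀ a, Rp cs R.nsys (w a) (g a)) (hpos : ∀ a, 0 ≤ rep cs h (w a)⁻¹ (sr i))
    (h1 : ∀ a b, a ≠ b → (w a)⁻¹ * w b ∉ WJ cs (Jx cs h X ρ))
    (h2 : ∀ a b, (w a)⁻¹ * (cs.simple i * w b) ∉ WJ cs (Jx cs h X ρ))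
    (r : α → ℕ) (hr0 : ∀ a, r a ≠ 0) (hr : ∀ a, r a ≤ Fintype.card E - 1)
    (hχ : ∀ a (s : Eˣ), ρ ((g a)⁻¹ * θ (hh s) * g a) c = (j (s : E) ^ r a) • c) :
    ∑ a, (SS p (r a)).card ≤ Module.finrank k V := by
  obtain ⟨φ₀, hφ₀, hne⟩ := exists_pair_D R hirr hc hc0
  have hUN : ∀ u ∈ UN cs h X, ∀ x, φ₀ (ρ u x) = φ₀ x := fun u hu x => dual_fx_pair R hφ₀ hu x
  have key : ∀ (a b : Y) (x : V), ρ (a * b) x = ρ a (ρ b x) := rho_mul ρ
  refine sum_le (Q := ρ.comp θ) (j := j) p (fun a => ρ (g a) c) (fun a => dualRep ρ (g a) φ₀) r hr0 hr ?_ ?_ ?_ ?_ ?_ ?_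
  · intro a t x
    change φ₀ (ρ (g a)⁻¹ (ρ (θ (Lo t)) x)) = φ₀ (ρ (g a)⁻¹ x)
    have h3 := R.conj_mem' (hg a) (isRoot_sr cs h i).neg (hLo t)
    have h4 : rep cs h (w a)⁻¹ (-sr i) ≤ 0 := by
      rw [map_neg]
      exact neg_nonpos.2 (hpos a)
    have h5 := X_le_UN ((isRoot_sr cs h i).neg.act (w a)⁻¹) h4 h3
    rw [← key, ← hUN _ h5 (ρ (g a)⁻¹ x), ← key]
    congr 2
    group
  · intro a t
    change ρ (θ (U t)) (ρ (g a) c) = ρ (g a) c
    have h3 := R.conj_mem' (hg a) (isRoot_sr cs h i) (hU t)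
    have h5 : (g a)⁻¹ * θ (U t) * g a ∈ RGD.Sup X (RGD.Pos cs h) :=
      RGD.le_Sup (S := RGD.Pos cs h) ⟨(isRoot_sr cs h i).act (w a)⁻¹, hpos a⟩ h3
    have h6 : ρ (g a) (ρ ((g a)⁻¹ * θ (U t) * g a) c) = ρ (g a) c := by rw [hc _ h5]
    rw [← key] at h6 ⊢
    rw [← h6]
    congr 2
    group
  · intro a s
    change ρ (θ (hh s)) (ρ (g a) c) = _
    have h3 := congrArg (ρ (g a)) (hχ a s)
    rw [← key, map_smul] at h3
    rw [← h3, ← key]
    congr 2
    group
  · intro a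
    change φ₀ (ρ (g a)⁻¹ (ρ (g a) c)) ≠ 0
    rw [rho_inv_rho]
    exact hne
  · intro a b hab
    change φ₀ (ρ (g a)⁻¹ (ρ (g b) c)) = 0
    by_contra hcon
    rw [← key] at hcon
    exact h1 a b hab (mem_WJ_of_pair R hirr hφ₀ ((hg a).inv.mul (hg b)) hc hcon)
  · intro a b
    change φ₀ (ρ (g a)⁻¹ (ρ (θ ww) (ρ (g b) c))) = 0
    by_contra hcon
    rw [← key, ← key, mul_assoc] at hcon
    exact h2 a b (mem_WJ_of_pair R hirr hφ₀ ((hg a).inv.mul (hww.mul (hg b))) hc hcon)

end rgd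

end Cfsg.Agent.H392.TD
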