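import Cfsg.Agent.H392.TD.Classify
import Mathlib.FieldTheory.KummerExtension

/-!
# Eigenvectors of the torus of `³D₄(q)` in `V^U`; modules of dimension less than 8 (helper392)
-/

set_option autoImplicit false
set_option linter.unusedSectionVars false
set_option linter.style.haveILetI false

namespace Cfsg.Agent.H392.TD

open CoxeterSystem Cfsg.Agent.ChevalleyStructure.CoxeterGeom Cfsg.Agent.Tits.Roots Cfsg.Agent.Tits.Core
  Cfsg.Agent.Tits.Exchange Cfsg.Agent.Nodes.Reps Cfsg.Agent.Nodes.BNOf Cfsg.Agent.Nodes.StabComb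
  Cfsg.Agent.Nodes.Bruhat Cfsg.Agent.Nodes.OppDec Cfsg.Agent.Nodes.LeviDec Cfsg.Agent.KFacts.RgdOpp
  Cfsg.Agent.Omega.CR Cfsg.Agent.Omega.FOne.Lift.Sd Cfsg.Agent.H905.Md Cfsg.Agent.H875.Fn
open Cfsg.Lie Cfsg.Agent.ChevalleyStructure
open scoped commutatorElement

section eig

/-- an endomorphism of order dividing `|K| - 1` has an eigenvalue in a field containing `K` -/
theorem exists_eigenvalue_of_pow {K k V : Type*} [Field K] [Fintype K] [Field k] (j : K →+* k) [AddCommGroup V]
    [Module k V] [FiniteDimensional k V] [Nontrivial V] (f : Module.End k V) (hf : f ^ (Fintype.card K - 1) = 1) :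
    ∃ a, f.HasEigenvalue a := by
  classical
  set N := Fintype.card K - 1 with hN
  have hN0 : 0 < N := by
    have := Fintype.one_lt_card (α := K)
    omega
  obtain ⟨g, hg⟩ := IsCyclic.exists_generator (α := Kˣ)
  have ho : orderOf g = N := by
    rw [orderOf_eq_card_of_forall_mem_zpowers hg, Nat.card_eq_fintype_card, Fintype.card_units]
  have hprim : IsPrimitiveRoot (j (g : K)) N := by
    rw [← ho]
    exact ((IsPrimitiveRoot.orderOf g).map_of_injective (f := Units.coeHom K) Units.val_injective).map_of_injective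
      j.injective
  have hsp : (Polynomial.X ^ N - Polynomial.C (1 : k)).Splits :=
    X_pow_sub_C_splits_of_isPrimitiveRoot hprim (one_pow N)
  have hdvd : minpoly k f ∣ Polynomial.X ^ N - Polynomial.C (1 : k) := by
    apply minpoly.dvd
    rw [map_sub, map_pow, Polynomial.aeval_X, hf, Polynomial.aeval_C, map_one, sub_self]
  have hne : (Polynomial.X ^ N - Polynomial.C (1 : k)) ≠ 0 := (Polynomial.monic_X_pow_sub_C 1 hN0.ne').ne_zero
  have hsp2 := hsp.of_dvd hne hdvd
  have hdeg : (minpoly k f).degree ≠ 0 := (minpoly.degree_pos (Algebra.IsIntegral.isIntegral f)).ne'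
  obtain ⟨a, ha⟩ := hsp2.exists_eval_eq_zero hdeg
  exact ⟨a, Module.End.hasEigenvalue_of_isRoot ha⟩

end eig

section tor

variable {K : Type*} [Field K] [Fintype K] {q : ℕ} {φ : K →+* K} (hφ : ∀ x, φ x = x ^ q)
  (hK : Fintype.card K = q ^ 3)

theorem hB_one : hB hφ 1 = 1 := by
  have := hB_mul hφ 1 1
  rw [one_mul] at this
  exact mul_eq_left.1 this

theorem hB_pow (s : Kˣ) (n : ℕ) : hB hφ s ^ n = hB hφ (s ^ n) := by
  induction n with
  | zero => rw [pow_zero, pow_zero, hB_one]
  | succ n ih => rw [pow_succ, ih, hB_mul, pow_succ]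

theorem hA_pow (s : Kˣ) (hs : fu φ s = s) (n : ℕ) : hA hφ s hs ^ n = hA hφ (s ^ n) (by rw [map_pow, hs]) := by
  induction n with
  | zero => rw [pow_zero, ← hA_one hφ]; exact hA_congr hφ (pow_zero s).symm _ _
  | succ n ih => rw [pow_succ, ih, hA_mul]; exact hA_congr hφ (pow_succ s n).symm _ _

include hφ hK in
theorem T_pow_card {t : ↥(twistedD4 K q)} (ht : t ∈ Nodes.RGDTwD4.T K q) : t ^ (Fintype.card K) = t := by
  have hq : IsPrimePow q := Cit.HexD4.isPrimePow_of_card hK
  obtain ⟨a, s, hs, rfl⟩ := exists_tor hφ hq hK ht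
  have hc : Commute (hB hφ a) (hA hφ s hs) := T_comm _ (hB_mem hφ a) _ (hA_mem hφ s hs)
  have hu : ∀ u : Kˣ, u ^ Fintype.card K = u := fun u => Units.ext (by
    rw [Units.val_pow_eq_pow_val, FiniteField.pow_card])
  rw [hc.mul_pow, hB_pow, hA_pow, hu]
  congr 1
  exact hA_congr hφ (hu s) _ _

include hφ hK in
theorem T_pow {t : ↥(twistedD4 K q)} (ht : t ∈ Nodes.RGDTwD4.T K q) : t ^ (Fintype.card K - 1) = 1 := by
  have h1 := T_pow_card hφ hK ht
  have h2 := Fintype.one_lt_card (α := K)
  have h3 : t ^ (Fintype.card K - 1) * t = t := by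
    rw [← pow_succ, Nat.sub_add_cancel h2.le, h1]
  exact mul_eq_right.1 h3

variable {k V : Type*} [Field k] (j : K →+* k) [AddCommGroup V] [Module k V] [FiniteDimensional k V] [Nontrivial V]
  {p : ℕ} [Fact p.Prime] [CharP K p] [CharP k p] {ρ : ↥(twistedD4 K q) →* Module.End k V}
  (hirr : ∀ L : Submodule k V, Ivt ρ (GG cs Nodes.RGDTwD4.isCartan (Nodes.RGDTwD4.T K q) (Nodes.RGDTwD4.X φ q)) L →
    L = ⊥ ∨ L = ⊤)

include hφ hK hirr j in
/-- **The torus has an eigenvector in `V^U`.** -/
theorem exists_eig (hp : p.Prime) : ∃ c ∈ D cs Nodes.RGDTwD4.isCartan (Nodes.RGDTwD4.X φ q) ρ, c ≠ 0 ∧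
    ∃ χ : ↥(twistedD4 K q) → k, ∀ t ∈ Nodes.RGDTwD4.T K q, ρ t c = χ t • c := by
  have hW : Finite CoxeterMatrix.G₂.Group := finiteG
  have hY : Finite ↥(twistedD4 K q) := inferInstance
  have R := Nodes.RGDTwD4.rgd (K := K) cs hK hφ p
  have h1 := simp_fx R ρ hirr
  set S := fx ρ (RGD.Sup (Nodes.RGDTwD4.X φ q) (RGD.Pos cs Nodes.RGDTwD4.isCartan)) with hS
  obtain ⟨c, hc, hc0⟩ := (Submodule.ne_bot_iff _).1 h1.ne
  refine ⟨c, hc, hc0, ?_⟩
  have hsc : ∀ t ∈ Nodes.RGDTwD4.T K q, ∃ a : k, ∀ v ∈ S, ρ t v = a • v := by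
    intro t ht
    have hne : Nontrivial S := ⟨⟨⟨c, hc⟩, 0, fun e => hc0 (congrArg Subtype.val e)⟩⟩
    have hpow : ((ρ t).restrict (fun v hv => h1.inv t ht v hv) : Module.End k S) ^ (Fintype.card K - 1) = 1 := by
      have key : ∀ (n : ℕ) (v : S), (((((ρ t).restrict (fun v hv => h1.inv t ht v hv) : Module.End k S) ^ n) v : S) : V) =
          ρ (t ^ n) v := by
        intro n
        induction n with
        | zero => intro v; rw [pow_zero, pow_zero, map_one]; rfl
        | succ n ih =>
          intro v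
          rw [pow_succ, pow_succ, rho_mul, Module.End.mul_apply, ih]
          rfl
      ext v
      rw [key, T_pow hφ hK ht, map_one]
      rfl
    obtain ⟨a, ha⟩ := exists_eigenvalue_of_pow j _ hpow
    obtain ⟨w, hw⟩ := ha.exists_hasEigenvector
    refine ⟨a, ?_⟩
    have h2 : LinearMap.ker (ρ t - a • LinearMap.id) ⊓ S = S := by
      refine (h1.simple _ inf_le_right ?_).resolve_left ?_
      · intro s hs v hv
        refine ⟨?_, h1.inv s hs v hv.2⟩
        have h3 : ρ t v - a • v = 0 := hv.1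
        change ρ t (ρ s v) - a • ρ s v = 0
        rw [← rho_mul, T_comm t ht s hs, rho_mul, sub_eq_zero.1 h3, map_smul, sub_self]
      · intro e
        have h3 : (w : V) ∈ LinearMap.ker (ρ t - a • LinearMap.id) ⊓ S := by
          refine ⟨?_, w.2⟩
          change ρ t (w : V) - a • (w : V) = 0
          have h4 := congrArg Subtype.val (Module.End.mem_eigenspace_iff.1 hw.1)
          rw [sub_eq_zero]
          exact h4
        rw [e, Submodule.mem_bot] at h3
        exact hw.2 (Subtype.ext h3)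
    intro v hv
    rw [← h2] at hv
    exact sub_eq_zero.1 hv.1
  choose! χ hχ using hsc
  exact ⟨χ, fun t ht => hχ t ht c hc⟩

end tor

/-! ### submodules and quotients -/

section sub

variable {Y k V : Type*} [Group Y] [Field k] [AddCommGroup V] [Module k V] (ρ : Y →* Module.End k V)
  (L : Submodule k V) (hL : ∀ g, ∀ v ∈ L, ρ g v ∈ L)

/-- the restriction -/
def resRep : Y →* Module.End k L where
  toFun g := (ρ g).restrict (hL g)
  map_one' := by
    ext v
    rw [LinearMap.coe_restrict_apply, map_one]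
    rfl
  map_mul' g g' := by
    ext v
    rw [LinearMap.coe_restrict_apply, rho_mul]
    rfl

theorem coe_resRep (g : Y) (v : L) : ((resRep ρ L hL g v : L) : V) = ρ g v := rfl

/-- the quotient -/
def quoRep : Y →* Module.End k (V ⧸ L) where
  toFun g := L.mapQ L (ρ g) (hL g)
  map_one' := by
    ext v
    change Submodule.Quotient.mk (ρ 1 v) = Submodule.Quotient.mk v
    rw [map_one]
    rfl
  map_mul' g g' := by
    ext v
    change Submodule.Quotient.mk (ρ (g * g') v) = Submodule.Quotient.mk (ρ g (ρ g' v))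
    rw [map_mul]
    rfl

theorem quoRep_mk (g : Y) (v : V) : quoRep ρ L hL g (Submodule.Quotient.mk v) = Submodule.Quotient.mk (ρ g v) := rfl

theorem eq_one_of_comm (hY : commutator Y = ⊤) (h : ∀ g g', ρ g * ρ g' = ρ g' * ρ g) (g : Y) : ρ g = 1 := by
  have h1 : commutator Y ≤ ρ.ker := by
    rw [commutator_def, Subgroup.commutator_le]
    intro a _ b _
    rw [MonoidHom.mem_ker, commutatorElement_def, map_mul, map_mul, map_mul, h a b]
    have e1 : ρ a * ρ a⁻¹ = 1 := by rw [← map_mul, mul_inv_cancel, map_one]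
    have e2 : ρ b * ρ b⁻¹ = 1 := by rw [← map_mul, mul_inv_cancel, map_one]
    rw [mul_assoc (ρ b), e1, mul_one, e2]
  exact h1 (by rw [hY]; trivial)

/-- a perfect group acting trivially on `L` and `V / L` acts trivially -/
theorem triv_ext (hY : commutator Y = ⊤) (h1 : ∀ g, resRep ρ L hL g = 1) (h2 : ∀ g, quoRep ρ L hL g = 1) (g : Y) :
    ρ g = 1 := by
  have k1 : ∀ g, ∀ v ∈ L, ρ g v = v := fun g v hv => by
    have := congrArg Subtype.val (LinearMap.congr_fun (h1 g) ⟨v, hv⟩)
    exact this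
  have k2 : ∀ g v, ρ g v - v ∈ L := fun g v => by
    have := LinearMap.congr_fun (h2 g) (Submodule.Quotient.mk v)
    rw [quoRep_mk] at this
    exact (Submodule.Quotient.eq L).1 this
  refine eq_one_of_comm ρ hY (fun a b => ?_) g
  have key : ∀ a b v, ρ a (ρ b v) = ρ a v + ρ b v - v := by
    intro a b v
    have h3 := k1 a _ (k2 b v)
    rw [map_sub] at h3
    rw [sub_eq_iff_eq_add] at h3
    rw [h3]
    abel
  ext v
  rw [Module.End.mul_apply, Module.End.mul_apply, key, key]
  abel

end sub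

/-! ### dimension less than 8 -/

section eight

universe w

variable {K : Type*} [Field K] [Fintype K] {q : ℕ} {φ : K →+* K} (hφ : ∀ x, φ x = x ^ q)
  (hK : Fintype.card K = q ^ 3) {k : Type*} [Field k] (j : K →+* k) {p : ℕ} [Fact p.Prime] [CharP K p] [CharP k p]

include hK hφ in
theorem GG_top : GG cs Nodes.RGDTwD4.isCartan (Nodes.RGDTwD4.T K q) (Nodes.RGDTwD4.X φ q) = ⊤ := by
  rw [eq_top_iff, ← Nodes.RGDTwD4.G1_eq_top (K := K) cs hK hφ]
  exact le_sup_right

theorem finrank_of_triv {V : Type w} [AddCommGroup V] [Module k V] [FiniteDimensional k V]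
    (hY : commutator ↥(twistedD4 K q) = ⊤)
    (ρ : ↥(twistedD4 K q) →* Module.End k V) (h : ∃ g, ρ g ≠ 1) : 2 ≤ Module.finrank k V := by
  obtain ⟨g, hg⟩ := h
  by_contra hlt
  have h01 : Module.finrank k V = 0 ∨ Module.finrank k V = 1 := by omega
  rcases h01 with h0 | h1
  · apply hg
    have := Module.finrank_zero_iff.1 h0
    ext v
    exact Subsingleton.elim _ _
  · apply hg
    refine eq_one_of_comm ρ hY (fun a b => ?_) g
    have hs : ∀ f : Module.End k V, ∃ c : k, ∀ v, f v = c • v := by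
      intro f
      obtain ⟨v₀, hv₀, hall⟩ := finrank_eq_one_iff'.1 h1
      obtain ⟨c, hc⟩ := hall (f v₀)
      refine ⟨c, fun v => ?_⟩
      obtain ⟨d, rfl⟩ := hall v
      rw [map_smul, ← hc, smul_smul, smul_smul, mul_comm]
    obtain ⟨c, hc⟩ := hs (ρ a)
    obtain ⟨d, hd⟩ := hs (ρ b)
    ext v
    rw [Module.End.mul_apply, Module.End.mul_apply, hc, hd, hd, hc, smul_smul, smul_smul, mul_comm]

include hφ hK j in
/-- **Every nontrivial module has dimension at least 8.** -/
theorem eight_le (hp : p.Prime) (hY : commutator ↥(twistedD4 K q) = ⊤) (n : ℕ) : ∀ (V : Type w) [AddCommGroup V] [Module k V] [FiniteDimensional k V]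
    (ρ : ↥(twistedD4 K q) →* Module.End k V), Module.finrank k V = n → (∃ g, ρ g ≠ 1) → 8 ≤ n := by
  induction n using Nat.strong_induction_on with
  | _ n ih =>
    intro V _ _ _ ρ hn hne
    have h2 := finrank_of_triv hY ρ hne
    by_cases h12 : n ≤ 12
    · by_cases hirr : ∀ L : Submodule k V, Ivt ρ (GG cs Nodes.RGDTwD4.isCartan (Nodes.RGDTwD4.T K q) (Nodes.RGDTwD4.X φ q)) L →
          L = ⊥ ∨ L = ⊤
      · have hnt : Nontrivial V := Module.nontrivial_of_finrank_pos (R := k) (by omega)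
        obtain ⟨c, hc, hc0, χ, hχ⟩ := exists_eig hφ hK j hirr hp
        have := (classify hφ hK j hirr hp h2 (by omega) hc hc0 hχ).2.2.1
        omega
      · push Not at hirr
        obtain ⟨L, hL, hL0, hL1⟩ := hirr
        have hL' : ∀ g, ∀ v ∈ L, ρ g v ∈ L := fun g v hv => hL g (by rw [GG_top hφ hK]; trivial) v hv
        have h3 := Submodule.finrank_quotient_add_finrank L
        have h4 : 0 < Module.finrank k L := Nat.pos_of_ne_zero fun h => hL0 (Submodule.finrank_eq_zero.1 h)
        have h5 : 0 < Module.finrank k (V ⧸ L) := by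
          refine Nat.pos_of_ne_zero fun h => hL1 ?_
          apply Submodule.eq_top_of_finrank_eq
          omega
        by_cases h6 : ∃ g, resRep ρ L hL' g ≠ 1
        · have := ih _ (by omega) L (resRep ρ L hL') rfl h6
          omega
        · by_cases h7 : ∃ g, quoRep ρ L hL' g ≠ 1
          · have := ih _ (by omega) (V ⧸ L) (quoRep ρ L hL') rfl h7
            omega
          · push Not at h6 h7
            obtain ⟨g, hg⟩ := hne
            exact absurd (triv_ext ρ L hL' hY h6 h7 g) hg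
    · omega

include hφ hK j in
/-- a nontrivial module of dimension 8 is simple -/
theorem irr_of_eight (hp : p.Prime) (hY : commutator ↥(twistedD4 K q) = ⊤) {V : Type w} [AddCommGroup V] [Module k V] [FiniteDimensional k V]
    (ρ : ↥(twistedD4 K q) →* Module.End k V) (hn : Module.finrank k V = 8) (hne : ∃ g, ρ g ≠ 1) (L : Submodule k V)
    (hL : Ivt ρ (GG cs Nodes.RGDTwD4.isCartan (Nodes.RGDTwD4.T K q) (Nodes.RGDTwD4.X φ q)) L) : L = ⊥ ∨ L = ⊤ := by
  by_contra hcon
  rw [not_or] at hcon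
  obtain ⟨hL0, hL1⟩ := hcon
  have hL' : ∀ g, ∀ v ∈ L, ρ g v ∈ L := fun g v hv => hL g (by rw [GG_top hφ hK]; trivial) v hv
  have h3 := Submodule.finrank_quotient_add_finrank L
  have h4 : 0 < Module.finrank k L := Nat.pos_of_ne_zero fun h => hL0 (Submodule.finrank_eq_zero.1 h)
  have h5 : 0 < Module.finrank k (V ⧸ L) := by
    refine Nat.pos_of_ne_zero fun h => hL1 ?_
    apply Submodule.eq_top_of_finrank_eq
    omega
  by_cases h6 : ∃ g, resRep ρ L hL' g ≠ 1
  · have := eight_le hφ hK j hp hY _ L (resRep ρ L hL') rfl h6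
    omega
  · by_cases h7 : ∃ g, quoRep ρ L hL' g ≠ 1
    · have := eight_le hφ hK j hp hY _ (V ⧸ L) (quoRep ρ L hL') rfl h7
      omega
    · push Not at h6 h7
      obtain ⟨g, hg⟩ := hne
      exact hg (triv_ext ρ L hL' hY h6 h7 g)

end eight

end Cfsg.Agent.H392.TD
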