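import Cfsg.Agent.H392.TD.Case
import Cfsg.Agent.H905.MdC

/-!
# `³D₄(q)` in its own characteristic: the case `J = {0}` (helper392)
-/

set_option autoImplicit false
set_option linter.unusedSectionVars false
set_option linter.style.haveILetI false

namespace Cfsg.Agent.H392.TD

open CoxeterSystem Cfsg.Agent.ChevalleyStructure.CoxeterGeom Cfsg.Agent.Tits.Roots Cfsg.Agent.Tits.Core
  Cfsg.Agent.Tits.Exchange Cfsg.Agent.Nodes.Reps Cfsg.Agent.Nodes.BNOf Cfsg.Agent.Nodes.StabComb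
  Cfsg.Agent.Nodes.Bruhat Cfsg.Agent.Nodes.OppDec Cfsg.Agent.Nodes.LeviDec Cfsg.Agent.KFacts.RgdOpp
  Cfsg.Agent.Omega.CR Cfsg.Agent.Omega.FOne.Lift.Sd Cfsg.Agent.H905.Md Cfsg.Agent.H875.Fn
open Cfsg.Lie Cfsg.Agent.ChevalleyStructure
open Cfsg.Agent.H911.SLTwo (U Lo hh ww)

/-- the words of the rotations -/
def V6 : Fin 6 → List (Fin 2) := ![[], [0, 1], [0, 1, 0, 1], [0, 1, 0, 1, 0, 1], [0, 1, 0, 1, 0, 1, 0, 1],
  [0, 1, 0, 1, 0, 1, 0, 1, 0, 1]]

theorem vtest : ∀ a b : Fin 6, a ≠ b → tst 1 ((V6 a).reverse ++ V6 b) = true := by decide +kernel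

theorem etest1 : ∀ a b : Fin 6, a ≠ b → actL (V6 a) (sr 1) ≠ actL (V6 b) (sr 1) := by decide +kernel

theorem etest2 : ∀ a b : Fin 6, actL (V6 a) (sr 1) = -actL (V6 b) (sr 1) → tst 1 ((V6 a).reverse ++ (V6 b ++ [1])) = true := by
  decide +kernel

section zero

variable {K : Type*} [Field K] [Fintype K] {q : ℕ} {φ : K →+* K} (hφ : ∀ x, φ x = x ^ q)
  (hK : Fintype.card K = q ^ 3)
  {k V : Type*} [Field k] (j : K →+* k) [AddCommGroup V] [Module k V] [FiniteDimensional k V] [Nontrivial V]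
  {p : ℕ} [Fact p.Prime] [CharP K p] [CharP k p] {ρ : ↥(twistedD4 K q) →* Module.End k V}
  (hirr : ∀ L : Submodule k V, Ivt ρ (GG cs Nodes.RGDTwD4.isCartan (Nodes.RGDTwD4.T K q) (Nodes.RGDTwD4.X φ q)) L →
    L = ⊥ ∨ L = ⊤)

include hφ hK hirr

/-- `dim Le {1} ≤ 3` -/
theorem finrank_Le_le (hp : p.Prime)
    (hD : Module.finrank k (D cs Nodes.RGDTwD4.isCartan (Nodes.RGDTwD4.X φ q) ρ) = 1)
    (h1 : 1 ∉ JD φ q ρ) (h12 : Module.finrank k V ≤ 12) :
    Module.finrank k (Le cs Nodes.RGDTwD4.isCartan (Nodes.RGDTwD4.T K q) (Nodes.RGDTwD4.X φ q) ρ {1}) ≤ 3 := by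
  have hW : Finite CoxeterMatrix.G₂.Group := finiteG
  have hY : Finite ↥(twistedD4 K q) := inferInstance
  have R := Nodes.RGDTwD4.rgd (K := K) cs hK hφ p
  have key := dim_ge R hirr (α := Fin 6) (β := Fin 6) (fun a => cs.wordProd (V6 a)) (fun a a' haa => by
    rw [← wordProd_reverse, ← wordProd_append]
    exact notMem_of_tst h1 (vtest a a' haa)) (fun b => cs.wordProd (V6 b)) (fun _ => 1) (fun b b' hbb => by
    rintro (⟨e, -⟩ | ⟨e, e'⟩)
    · rw [rep_wd, rep_wd] at e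
      exact etest1 b b' hbb e
    · rw [rep_wd, rep_wd] at e
      have h2 := notMem_of_tst h1 (etest2 b b' e)
      rw [wordProd_append, wordProd_append, wordProd_reverse, wordProd_singleton] at h2
      exact h2 e')
  rw [hD, Finset.sum_const, Finset.card_univ, Fintype.card_fin, mul_one, smul_eq_mul] at key
  have h2 := finrank_Io R hirr 1
  rw [hD] at h2
  omega

variable {c : V} (hc : c ∈ D cs Nodes.RGDTwD4.isCartan (Nodes.RGDTwD4.X φ q) ρ) (hc0 : c ≠ 0)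
  {m : ℕ} (hBc : ∀ s : Kˣ, ρ (hB hφ s) c = (j (s : K) ^ m) • c)

include hc hc0 hBc

/-- `|SS m| ≤ dim Le {1}` -/
theorem card_SS_le_Le (hp : p.Prime) (h1 : 1 ∉ JD φ q ρ) (hm : 1 ≤ m) (hmN : m ≤ q ^ 3 - 1) :
    (SS p m).card ≤
      Module.finrank k (Le cs Nodes.RGDTwD4.isCartan (Nodes.RGDTwD4.T K q) (Nodes.RGDTwD4.X φ q) ρ {1}) := by
  have hW : Finite CoxeterMatrix.G₂.Group := finiteG
  have hY : Finite ↥(twistedD4 K q) := inferInstance
  have hle := D4Fixed.twisted_le_fix hK hφ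
  have R := Nodes.RGDTwD4.rgd (K := K) cs hK hφ p
  set L := Le cs Nodes.RGDTwD4.isCartan (Nodes.RGDTwD4.T K q) (Nodes.RGDTwD4.X φ q) ρ {1} with hL
  have hLth : ∀ g : Matrix.SpecialLinearGroup (Fin 2) K, ∀ v ∈ L, ρ (th hφ g) v ∈ L := by
    intro g v hv
    refine Ivt_Le R (ρ := ρ) ({1} : Set (Fin 2)) _ ?_ v hv
    have h2 : Nodes.RGDTwD4.X φ q (sr 1) ⊔ Nodes.RGDTwD4.X φ q (-sr 1) ≤
        LJ cs Nodes.RGDTwD4.isCartan (Nodes.RGDTwD4.T K q) (Nodes.RGDTwD4.X φ q) {1} := by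
      have h3 : ∀ k : Fin 2, k ∉ ({1} : Set (Fin 2)) → (sr 1 : Fin 2 → ℤ) k = 0 := fun k hk =>
        sr_ne fun e => hk (by rw [e]; rfl)
      refine sup_le (X_le_LJ ⟨isRoot_sr cs _ 1, h3⟩) (X_le_LJ ⟨(isRoot_sr cs _ 1).neg, fun k hk => ?_⟩)
      rw [Pi.neg_apply, h3 k hk, neg_zero]
    exact h2 (th_mem_sup hφ hle g)
  have hcL : c ∈ L := D_le_Le R _ hc
  let Q : Matrix.SpecialLinearGroup (Fin 2) K →* Module.End k L :=
    { toFun := fun g => (ρ (th hφ g)).restrict (hLth g)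
      map_one' := by
        ext v
        rw [LinearMap.coe_restrict_apply, map_one, map_one]
        rfl
      map_mul' := fun g g' => by
        ext v
        rw [LinearMap.coe_restrict_apply, map_mul, rho_mul]
        rfl }
  have hQ : ∀ g (v : L), ((Q g v : L) : V) = ρ (th hφ g) v := fun g v => rfl
  obtain ⟨φ₀, hφ₀, hne⟩ := exists_pair_D R hirr hc hc0
  have hφUN : ∀ u ∈ UN cs Nodes.RGDTwD4.isCartan (Nodes.RGDTwD4.X φ q), ∀ x, φ₀ (ρ u x) = φ₀ x := fun u hu x =>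
    dual_fx_pair R hφ₀ hu x
  have key := sum_le (j := j) (Q := Q) p (α := Unit) (fun _ => ⟨c, hcL⟩) (fun _ => φ₀.comp L.subtype) (fun _ => m)
    (fun _ => by omega) (fun _ => by rw [hK]; exact hmN) (fun _ t x => ?_) (fun _ t => ?_) (fun _ s => ?_)
    (fun _ => hne) (fun a b hab => absurd rfl hab) (fun _ _ => ?_)
  · rwa [Finset.univ_unique, Finset.sum_singleton] at key
  · change φ₀ (ρ (th hφ (Lo t)) x) = φ₀ x
    refine hφUN _ ?_ _
    exact X_le_UN (isRoot_sr cs _ 1).neg (neg_nonpos.2 (sr_nonneg 1)) (th_Lo hφ hle t)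
  · apply Subtype.ext
    exact X_fix R ρ hc 1 (th_U hφ hle t)
  · apply Subtype.ext
    change ρ (th hφ (hh s)) c = _
    rw [th_hh, hBc]
    rfl
  · change φ₀ (ρ (th hφ ww) c) = 0
    by_contra hcon
    have h2 := mem_WJ_of_pair R hirr hφ₀ (rp_simple cs R.nsys 1) hc (by rwa [th_ww] at hcon)
    exact h1 (simple_mem_WJ Nodes.RGDTwD4.isCartan h2)

/-- **The case `J = {0}`.** -/
theorem case_zero (hp : p.Prime)
    (hD : Module.finrank k (D cs Nodes.RGDTwD4.isCartan (Nodes.RGDTwD4.X φ q) ρ) = 1) (h0 : 0 ∈ JD φ q ρ) (h1 : 1 ∉ JD φ q ρ) (hm : 1 ≤ m)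
    (hmN : m ≤ q ^ 3 - 1) (h12 : Module.finrank k V ≤ 12) :
    (∃ t, m = p ^ t) ∧ 8 ≤ Module.finrank k V := by
  obtain ⟨f, hf, hqf⟩ := exists_f (p := p) hK
  have hN : 0 < q ^ 3 - 1 := by omega
  have k1 := card_SS_le_Le hφ hK j hirr hc hc0 hBc hp h1 hm hmN
  have k2 := finrank_Le_le hφ hK hirr hp hD h1 h12
  have hAc : ∀ (r : Kˣ) (hr : fu φ r = r), ρ (hA hφ r hr) c = (j (r : K) ^ 0) • c := by
    intro r hr
    rw [pow_zero, one_smul, hA_fix hφ hK hp h0 hc]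
  have key := cnt_even hφ hK j hirr hc hc0 hBc hAc h1
  rw [zero_mul, add_zero, add_zero, red_eq rfl (by omega) hmN] at key
  have k3 := two_le_card_SS (p := p) (r := m) (by omega)
  have hpr : (SS p m).card.Prime := by
    have h4 : (SS p m).card = 2 ∨ (SS p m).card = 3 := by omega
    rcases h4 with h4 | h4
    · rw [h4]; exact Nat.prime_two
    · rw [h4]; exact Nat.prime_three
  obtain ⟨t, d, hd0, hdp, e, e'⟩ := eq_of_prime (p := p) (by omega) hpr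
  have k4 := card_third (p := p) (f := f) (t := t) hf hd0 hdp
  rw [← hqf, ← e] at k4
  rw [k4, e'] at key
  have hd : d = 1 := by
    by_contra hd
    have hd2 : 2 ≤ d := by omega
    have : (d + 1) ^ 2 ≥ 3 ^ 2 := Nat.pow_le_pow_left (by omega) 2
    omega
  rw [hd] at key e
  refine ⟨⟨t, by rw [e, mul_one]⟩, by omega⟩

end zero

end Cfsg.Agent.H392.TD
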